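import Groth.Agent.AlgzCohLib.Main
import Groth.Agent.S11133

/-!
# Flat base change of canonical extensions
-/

set_option autoImplicit false
set_option linter.style.haveILetI false
set_option linter.unusedSectionVars false

universe u

open CategoryTheory CategoryTheory.Limits AlgebraicGeometry Opposite TopologicalSpace

noncomputable section

namespace AlgzCohLib

attribute [local instance 10000] selfOver

variable {A A' : Type u} [CommRing A] [CommRing A'] [Algebra A A']

/-- The morphism of spectra of an algebra. -/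
abbrev specMapA (A A' : Type u) [CommRing A] [CommRing A'] [Algebra A A'] :
    Spec (CommRingCat.of A') ⟶ Spec (CommRingCat.of A) :=
  Spec.map (CommRingCat.ofHom (algebraMap A A'))

theorem push_smulMod (N : (Spec (CommRingCat.of A')).Modules) (a : A) :
    (Scheme.Modules.pushforward (specMapA A A')).map (Formal.smulMod A' N (algebraMap A A' a)) =
      Formal.smulMod A ((Scheme.Modules.pushforward (specMapA A A')).obj N) a := by
  apply Scheme.Modules.hom_ext
  intro V
  refine ConcreteCategory.hom_ext _ _ fun x => ?_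
  let f := specMapA A A'
  change (show Γ(Spec (CommRingCat.of A'), f ⁻¹ᵁ V) from Coh.resTop (Spec (CommRingCat.of A')) (op (f ⁻¹ᵁ V))
      (Coh.toGlobal (Spec (CommRingCat.of A') ↘ Spec (CommRingCat.of A')) (algebraMap A A' a))) •
      (show Γ(N, f ⁻¹ᵁ V) from x) =
    (f.app V (show Γ(Spec (CommRingCat.of A), V) from Coh.resTop (Spec (CommRingCat.of A)) (op V)
      (Coh.toGlobal (Spec (CommRingCat.of A) ↘ Spec (CommRingCat.of A)) a))) • (show Γ(N, f ⁻¹ᵁ V) from x)
  congr 1
  rw [toGlobal_self, toGlobal_self]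
  have h1 := ConcreteCategory.congr_hom (Scheme.ΓSpecIso_inv_naturality (CommRingCat.ofHom (algebraMap A A'))) a
  have h2 := ConcreteCategory.congr_hom (f.naturality (homOfLE (le_top : V ≤ ⊤)).op)
    ((Scheme.ΓSpecIso (CommRingCat.of A)).inv a)
  refine Eq.trans ?_ h2.symm
  exact congrArg ((Spec (CommRingCat.of A')).presheaf.map (homOfLE (le_top : f ⁻¹ᵁ V ≤ ⊤)).op) h1

theorem pullback_smulMod (M : (Spec (CommRingCat.of A)).Modules) (a : A) :
    (Scheme.Modules.pullback (specMapA A A')).map (Formal.smulMod A M a) =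
      Formal.smulMod A' ((Scheme.Modules.pullback (specMapA A A')).obj M) (algebraMap A A' a) := by
  let adj := Scheme.Modules.pullbackPushforwardAdjunction (specMapA A A')
  apply (adj.homEquiv M _).injective
  rw [Adjunction.homEquiv_unit, Adjunction.homEquiv_unit, push_smulMod]
  exact (adj.unit.naturality (Formal.smulMod A M a)).symm.trans
    (smulMod_naturality (adj.unit.app M) a).symm

/-- An ideal kills a module as soon as generators do. -/
theorem killedBy_map {J : Ideal A} {N : (Spec (CommRingCat.of A')).Modules}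
    (h : ∀ a ∈ J, Formal.smulMod A' N (algebraMap A A' a) = 0) : Formal.KilledBy (J.map (algebraMap A A')) N := by
  intro b hb
  refine Submodule.span_induction (p := fun y _ => Formal.smulMod A' N y = 0) ?_ ?_ ?_ ?_ hb
  · rintro _ ⟨a, ha, rfl⟩
    exact h a ha
  · have := FormalLib.smulMod_add (A := A') N (0 : A') 0
    rw [add_zero] at this
    exact left_eq_add.1 this
  · intro y z _ _ hy hz
    rw [FormalLib.smulMod_add, hy, hz, add_zero]
  · intro c y _ hy
    rw [smul_eq_mul, FormalLib.smulMod_mul, hy, zero_comp]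

theorem IsModQuot.pullback {J : Ideal A} {M N : (Spec (CommRingCat.of A)).Modules} {p : M ⟶ N}
    (hp : IsModQuot J p) (hN : Formal.KilledBy J N) :
    IsModQuot (J.map (algebraMap A A')) ((Scheme.Modules.pullback (specMapA A A')).map p) := by
  let adj := Scheme.Modules.pullbackPushforwardAdjunction (specMapA A A')
  haveI := hp.epi
  haveI : (Scheme.Modules.pullback (specMapA A A')).IsLeftAdjoint := adj.isLeftAdjoint
  haveI : (Scheme.Modules.pullback (specMapA A A')).PreservesZeroMorphisms := Functor.preservesZeroMorphisms_of_isLeftAdjoint _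
  refine ⟨fun b hb => ?_, inferInstance, fun T g hg => ?_⟩
  · refine smulMod_comp_eq_zero (killedBy_map fun a ha => ?_) _ hb
    rw [← pullback_smulMod, hN a ha, Functor.map_zero]
  · obtain ⟨g', hg'⟩ := hp.factor _ (adj.homEquiv M T g) fun a ha => by
      rw [← adj.homEquiv_naturality_left, pullback_smulMod, hg _ (Ideal.mem_map_of_mem _ ha),
        Adjunction.homEquiv_unit, Functor.map_zero, comp_zero]
    refine ⟨(adj.homEquiv N T).symm g', ?_⟩
    rw [← adj.homEquiv_naturality_left_symm, hg', Equiv.symm_apply_apply]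

theorem isCohFormal_pullback {I : Ideal A} {G : ℕᵒᵖ ⥤ (Spec (CommRingCat.of A)).Modules}
    (hG : Formal.IsCohFormal I G) :
    Formal.IsCohFormal (I.map (algebraMap A A')) (G ⋙ Scheme.Modules.pullback (specMapA A A')) := by
  haveI : (Scheme.Modules.pullback (specMapA A A')).IsLeftAdjoint :=
    (Scheme.Modules.pullbackPushforwardAdjunction (specMapA A A')).isLeftAdjoint
  haveI : (Scheme.Modules.pullback (specMapA A A')).PreservesZeroMorphisms := Functor.preservesZeroMorphisms_of_isLeftAdjoint _
  refine isCohFormal_of (fun n => ?_) (fun n => ?_) (fun n => ?_)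
  · haveI := (hG.1 n).1
    exact ⟨KFlatLib.isQCoh_pullback (specMapA A A') _, ConsLib.isFT_pullback (specMapA A A') _ (hG.1 n).2⟩
  · rw [← Ideal.map_pow]
    refine killedBy_map fun a ha => ?_
    show Formal.smulMod A' ((Scheme.Modules.pullback (specMapA A A')).obj (G.obj (op n))) _ = 0
    rw [← pullback_smulMod, hG.2.1 n a ha, Functor.map_zero]
  · rw [← Ideal.map_pow]
    exact (tr_succ_isModQuot hG n).pullback (hG.2.1 n)

/-- The base change morphism for the open immersion, as a natural transformation. -/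
def bcNat (U : (Spec (CommRingCat.of A)).Opens) :
    Scheme.Modules.pushforward U.ι ⋙ Scheme.Modules.pullback (specMapA A A') ⟶
      Scheme.Modules.pullback (specMapA A A' ∣_ U) ⋙ Scheme.Modules.pushforward (specMapA A A' ⁻¹ᵁ U).ι :=
  Functor.whiskerRight (Functor.whiskerRight
      (Scheme.Modules.pullbackPushforwardAdjunction (specMapA A A' ∣_ U)).unit (Scheme.Modules.pushforward U.ι))
      (Scheme.Modules.pullback (specMapA A A')) ≫
    Functor.whiskerLeft (Scheme.Modules.pullback (specMapA A A' ∣_ U))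
      (Functor.whiskerRight ((Scheme.Modules.pushforwardComp (specMapA A A' ∣_ U) U.ι ≪≫
          Scheme.Modules.pushforwardCongr (isPullback_morphismRestrict (specMapA A A') U).w ≪≫
          (Scheme.Modules.pushforwardComp (specMapA A A' ⁻¹ᵁ U).ι (specMapA A A')).symm).hom)
        (Scheme.Modules.pullback (specMapA A A')) ≫
      Functor.whiskerLeft (Scheme.Modules.pushforward (specMapA A A' ⁻¹ᵁ U).ι)
        (Scheme.Modules.pullbackPushforwardAdjunction (specMapA A A')).counit)

theorem flat_specMapA [Module.Flat A A'] : Flat (specMapA A A') :=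
  (HasRingHomProperty.Spec_iff (P := @Flat)).mpr (RingHom.flat_algebraMap_iff.mpr inferInstance)

theorem isIso_bcNat_app [Module.Flat A A'] (U : (Spec (CommRingCat.of A)).Opens) [QuasiCompact U.ι]
    (M : (U : Scheme.{u}).Modules) [Coh.IsQCoh M] : IsIso ((bcNat (A' := A') U).app M) := by
  haveI := flat_specMapA (A := A) (A' := A')
  exact Groth.Agent.S11133.result U.ι (specMapA A A') (specMapA A A' ∣_ U) (specMapA A A' ⁻¹ᵁ U).ι
    (isPullback_morphismRestrict (specMapA A A') U) M

theorem nonempty_sectSys_iso {R : Type u} [CommRing R] (U : (Spec (CommRingCat.of R)).Opens)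
    (G : ℕᵒᵖ ⥤ (U : Scheme.{u}).Modules) [∀ i, Coh.IsQCoh ((Scheme.Modules.pushforward U.ι).obj (G.obj i))] :
    Nonempty (Algz.sectSys R U G ≅ G ⋙ Scheme.Modules.pushforward U.ι) := by
  let push := Scheme.Modules.pushforward U.ι
  let α : Algz.sectSys R U G ⟶ G ⋙ push :=
    { app := fun i => (adjA R).counit.app (push.obj (G.obj i))
      naturality := fun i j f => (adjA R).counit.naturality (push.map (G.map f)) }
  haveI : ∀ i, IsIso (α.app i) := fun i => isIso_counit (push.obj (G.obj i))
  haveI := NatIso.isIso_of_isIso_app α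
  exact ⟨asIso α⟩

theorem canonicallyExtends_baseChange [IsNoetherianRing A] [Module.Flat A A'] {I : Ideal A}
    {U : (Spec (CommRingCat.of A)).Opens} {G : ℕᵒᵖ ⥤ (U : Scheme.{u}).Modules} (hG : Formal.IsCohFormal I G)
    (h : Algz.CanonicallyExtends A I U G) :
    Algz.CanonicallyExtends A' (I.map (algebraMap A A')) (specMapA A A' ⁻¹ᵁ U)
      (G ⋙ Scheme.Modules.pullback (specMapA A A' ∣_ U)) := by
  obtain ⟨G', hG', hpro⟩ := h
  haveI : QuasiCompact (specMapA A A' ⁻¹ᵁ U).ι :=
    MorphismProperty.of_isPullback (isPullback_morphismRestrict (specMapA A A') U) (inferInstanceAs (QuasiCompact U.ι))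
  haveI : ∀ i, Coh.IsQCoh ((Scheme.Modules.pushforward U.ι).obj (G.obj i)) := fun i =>
    haveI := (hG.1 i.unop).1
    QCohLib.isQCoh_pushforward U.ι (G.obj i)
  haveI : ∀ i, Coh.IsQCoh ((Scheme.Modules.pushforward (specMapA A A' ⁻¹ᵁ U).ι).obj
      ((G ⋙ Scheme.Modules.pullback (specMapA A A' ∣_ U)).obj i)) := fun i =>
    haveI := (hG.1 i.unop).1
    haveI : Coh.IsQCoh ((G ⋙ Scheme.Modules.pullback (specMapA A A' ∣_ U)).obj i) :=
      KFlatLib.isQCoh_pullback (specMapA A A' ∣_ U) (G.obj i)
    QCohLib.isQCoh_pushforward (specMapA A A' ⁻¹ᵁ U).ι _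
  obtain ⟨e₁⟩ := nonempty_sectSys_iso U G
  obtain ⟨e₂⟩ := nonempty_sectSys_iso (specMapA A A' ⁻¹ᵁ U) (G ⋙ Scheme.Modules.pullback (specMapA A A' ∣_ U))
  let γ := Functor.whiskerLeft G (bcNat (A' := A') U)
  haveI : ∀ i, IsIso (γ.app i) := fun i =>
    haveI := (hG.1 i.unop).1
    isIso_bcNat_app U (G.obj i)
  haveI := NatIso.isIso_of_isIso_app γ
  refine ⟨_, isCohFormal_pullback hG', isProIsomorphic_congr ?_
    (isProIsomorphic_map (Scheme.Modules.pullback (specMapA A A')) hpro)⟩
  exact e₂ ≪≫ Functor.associator _ _ _ ≪≫ (asIso γ).symm ≪≫ (Functor.associator _ _ _).symm ≪≫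
    (Functor.isoWhiskerRight e₁ _).symm

end AlgzCohLib
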