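import Groth.Prelude.Def_Formal
import Groth.Prelude.Def_Algz
import Mathlib.AlgebraicGeometry.Modules.Sheaf

/-!
# Morphisms between systems of coherent formal modules
-/

set_option autoImplicit false
set_option linter.style.haveILetI false
set_option linter.unusedSectionVars false

universe u

open CategoryTheory CategoryTheory.Limits AlgebraicGeometry Opposite TopologicalSpace

noncomputable section

namespace AlgzCohLib

variable {A : Type u} [CommRing A] {X : Scheme.{u}} [X.Over (Spec (CommRingCat.of A))]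

theorem smulMod_naturality {M N : X.Modules} (φ : M ⟶ N) (a : A) :
    φ ≫ Formal.smulMod A N a = Formal.smulMod A M a ≫ φ := by
  apply Scheme.Modules.hom_ext
  intro U
  refine ConcreteCategory.hom_ext _ _ fun x => ?_
  exact ((φ.val.app (op U)).hom.map_smul (Coh.resTop X (op U) _) x).symm

theorem smulFamily_comp_eq_zero_iff (J : Ideal A) {M T : X.Modules} (g : M ⟶ T) :
    Formal.smulFamily J M ≫ g = 0 ↔ ∀ a ∈ J, Formal.smulMod A M a ≫ g = 0 := by
  constructor
  · intro h a ha
    have e : Sigma.ι (fun _ : J => M) ⟨a, ha⟩ ≫ Formal.smulFamily J M = Formal.smulMod A M a :=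
      Sigma.ι_desc _ _
    rw [← e, Category.assoc, h, comp_zero]
  · intro h
    refine Sigma.hom_ext _ _ fun a => ?_
    rw [comp_zero, ← Category.assoc,
      show Sigma.ι (fun _ : J => M) a ≫ Formal.smulFamily J M = Formal.smulMod A M (a : A) from Sigma.ι_desc _ _]
    exact h _ a.2

theorem smulMod_comp_eq_zero {J : Ideal A} {M T : X.Modules} (hT : Formal.KilledBy J T) (g : M ⟶ T)
    {a : A} (ha : a ∈ J) : Formal.smulMod A M a ≫ g = 0 := by
  rw [← smulMod_naturality, hT a ha, comp_zero]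

/-- `p : M ⟶ N` is the quotient of `M` by `J`. -/
structure IsModQuot (J : Ideal A) {M N : X.Modules} (p : M ⟶ N) : Prop where
  killed : ∀ a ∈ J, Formal.smulMod A M a ≫ p = 0
  epi : Epi p
  factor : ∀ (T : X.Modules) (g : M ⟶ T), (∀ a ∈ J, Formal.smulMod A M a ≫ g = 0) → ∃ g', p ≫ g' = g

variable {I : Ideal A} {G : ℕᵒᵖ ⥤ X.Modules}

theorem tr_succ_isModQuot (hG : Formal.IsCohFormal I G) (n : ℕ) :
    IsModQuot (I ^ (n + 1)) (ARSys.tr G (Nat.le_succ n)) := by
  obtain ⟨h, hiso⟩ := hG.2.2 n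
  refine ⟨(smulFamily_comp_eq_zero_iff _ _).1 h, ?_, fun T g hg => ?_⟩
  · rw [← cokernel.π_desc _ (ARSys.tr G (Nat.le_succ n)) h]
    exact epi_comp _ _
  · refine ⟨inv (cokernel.desc _ _ h) ≫ cokernel.desc _ g ((smulFamily_comp_eq_zero_iff _ _).2 hg), ?_⟩
    rw [← cokernel.π_desc_assoc _ (ARSys.tr G (Nat.le_succ n)) h, IsIso.hom_inv_id_assoc, cokernel.π_desc]

theorem tr_self (n : ℕ) : ARSys.tr G (le_refl n) = 𝟙 _ := G.map_id _

theorem tr_comp {n m k : ℕ} (h : n ≤ m) (h' : m ≤ k) :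
    ARSys.tr G h' ≫ ARSys.tr G h = ARSys.tr G (h.trans h') := by
  rw [← Functor.map_comp]; rfl

/-- Every transition map of an object of `Coh(X, I)` is a quotient map. -/
theorem tr_isModQuot (hG : Formal.IsCohFormal I G) {n N : ℕ} (h : n ≤ N) :
    IsModQuot (I ^ (n + 1)) (ARSys.tr G h) := by
  induction h with
  | refl =>
    rw [tr_self]
    exact ⟨fun a ha => by rw [Category.comp_id]; exact hG.2.1 n a ha, inferInstance,
      fun T g _ => ⟨g, Category.id_comp _⟩⟩
  | @step N hN ih =>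
    have hs := tr_succ_isModQuot hG N
    have e : ARSys.tr G (Nat.le_succ_of_le hN) = ARSys.tr G (Nat.le_succ N) ≫ ARSys.tr G hN :=
      (tr_comp hN (Nat.le_succ N)).symm
    change IsModQuot _ (ARSys.tr G (Nat.le_succ_of_le hN))
    rw [e]
    haveI := hs.epi
    haveI := ih.epi
    refine ⟨fun a ha => by rw [← Category.assoc, ← smulMod_naturality, Category.assoc, ih.killed a ha, comp_zero],
      epi_comp _ _, fun T g hg => ?_⟩
    obtain ⟨g₁, rfl⟩ := hs.factor T g fun a ha =>
      hg a (Ideal.pow_le_pow_right (Nat.succ_le_succ hN) ha)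
    obtain ⟨g₂, rfl⟩ := ih.factor T g₁ fun a ha => by
      rw [← cancel_epi (ARSys.tr G (Nat.le_succ N)), ← Category.assoc, smulMod_naturality, Category.assoc,
        hg a ha, comp_zero]
    exact ⟨g₂, by rw [Category.assoc]⟩

/-- Maps of pro-objects between objects of `Coh(X, I)` come from levelwise maps. -/
theorem existsUnique_hom {F : ℕᵒᵖ ⥤ X.Modules} (hF : Formal.IsCohFormal I F) (hG : Formal.IsCohFormal I G)
    {m : ℕ → ℕ} (hm : Monotone m) (hle : ∀ n, n ≤ m n) (π : DerCA.reindex F hm ⟶ F)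
    (hπ : ∀ n, π.app (op n) = F.map (homOfLE (hle n)).op) (α : DerCA.reindex F hm ⟶ G) :
    ∃! β : F ⟶ G, π ≫ β = α := by
  have hepi : ∀ n : ℕᵒᵖ, Epi (π.app n) := fun n => by
    obtain ⟨n⟩ := n
    rw [hπ n]
    exact (tr_isModQuot hF (hle n)).epi
  have key : ∀ n : ℕᵒᵖ, ∃ b, π.app n ≫ b = α.app n := fun n => by
    obtain ⟨n⟩ := n
    obtain ⟨b, hb⟩ := (tr_isModQuot hF (hle n)).factor _ (α.app (op n))
      fun a ha => smulMod_comp_eq_zero (hG.2.1 n) _ ha
    exact ⟨b, by rw [hπ n]; exact hb⟩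
  choose b hb using key
  let β : F ⟶ G :=
    { app := b
      naturality := fun i j f => by
        haveI := hepi i
        rw [← cancel_epi (π.app i), ← π.naturality_assoc, hb, α.naturality, reassoc_of% (hb i)] }
  refine ⟨β, NatTrans.ext (funext fun i => hb i), fun β' hβ' => NatTrans.ext (funext fun i => ?_)⟩
  haveI := hepi i
  rw [← cancel_epi (π.app i), hb]
  exact congrArg (fun t => t.app i) hβ'

/-- Pro-isomorphic objects of `Coh(X, I)` are isomorphic. -/
theorem nonempty_iso {F : ℕᵒᵖ ⥤ X.Modules} (hF : Formal.IsCohFormal I F) (hG : Formal.IsCohFormal I G)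
    (h : Algz.IsProIsomorphic F G) : Nonempty (F ≅ G) := by
  obtain ⟨m, hm, hle, α, hα⟩ := h
  let π : DerCA.reindex F hm ⟶ F :=
    { app := fun n => ARSys.tr F (hle n.unop)
      naturality := fun i j f => by
        change F.map _ ≫ F.map _ = F.map _ ≫ F.map _
        rw [← Functor.map_comp, ← Functor.map_comp]
        rfl }
  obtain ⟨β, hβ, -⟩ := existsUnique_hom hF hG hm hle π (fun n => rfl) α
  let a : ∀ n, F.obj (op (m n)) ⟶ G.obj (op n) := fun n => α.app (op n)
  have hβn : ∀ n, ARSys.tr F (hle n) ≫ β.app (op n) = a n := fun n =>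
    congrArg (fun t => t.app (op n)) hβ
  have : ∀ i, IsIso (β.app i) := fun i => by
    obtain ⟨n⟩ := i
    obtain ⟨M, hM, b, h1, h2⟩ : ∃ (M : ℕ) (hM : n ≤ M) (b : G.obj (op M) ⟶ F.obj (op (m n))),
        a M ≫ b = ARSys.tr F (hm hM) ∧ b ≫ a n = ARSys.tr G hM := hα n
    obtain ⟨c, hc⟩ := (tr_isModQuot hG hM).factor (F.obj (op n)) (b ≫ ARSys.tr F (hle n))
      fun a ha => smulMod_comp_eq_zero (hF.2.1 n) _ ha
    haveI := (tr_isModQuot hF (hM.trans (hle M))).epi
    haveI := (tr_isModQuot hG hM).epi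
    refine ⟨c, ?_, ?_⟩
    · rw [← cancel_epi (ARSys.tr F (hM.trans (hle M))), Category.comp_id]
      calc ARSys.tr F (hM.trans (hle M)) ≫ β.app (op n) ≫ c
          = ARSys.tr F (hle M) ≫ (ARSys.tr F hM ≫ β.app (op n)) ≫ c := by
            rw [← tr_comp hM (hle M), Category.assoc, Category.assoc]
        _ = (ARSys.tr F (hle M) ≫ β.app (op M)) ≫ ARSys.tr G hM ≫ c := by
            rw [show ARSys.tr F hM ≫ β.app (op n) = β.app (op M) ≫ ARSys.tr G hM from β.naturality _]
            simp only [Category.assoc]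
        _ = a M ≫ b ≫ ARSys.tr F (hle n) := by rw [hβn, hc]
        _ = ARSys.tr F (hm hM) ≫ ARSys.tr F (hle n) := by rw [← Category.assoc, h1]
        _ = ARSys.tr F (hM.trans (hle M)) := tr_comp (hle n) (hm hM)
    · rw [← cancel_epi (ARSys.tr G hM), Category.comp_id, ← Category.assoc, hc, Category.assoc, hβn]
      exact h2
  haveI := NatIso.isIso_of_isIso_app β
  exact ⟨asIso β⟩

end AlgzCohLib
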