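import Mathlib

/-!
# Presentations of bounded size: base change, local-to-global, products
-/

set_option autoImplicit false
set_option linter.all false

universe u

namespace AlgzCohLib

open Submodule Set

/-- `M` has a presentation with generators indexed by `ι` and relations indexed by `κ`. -/
def Pres (R : Type u) [CommRing R] (M : Type u) [AddCommGroup M] [Module R M]
    (ι κ : Type) [Fintype ι] : Prop :=
  ∃ (m : ι → M) (w : κ → ι → R), span R (range m) = ⊤ ∧
    LinearMap.ker (Fintype.linearCombination R m) = span R (range w)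

theorem exists_pres (R : Type u) [CommRing R] (M : Type u) [AddCommGroup M] [Module R M]
    [Module.FinitePresentation R M] : ∃ N K : ℕ, Pres R M (Fin N) (Fin K) := by
  classical
  obtain ⟨N, m, hm⟩ := Module.Finite.exists_fin (R := R) (M := M)
  have hs : Function.Surjective (Fintype.linearCombination R m) := by
    rw [← LinearMap.range_eq_top, Fintype.range_linearCombination]
    exact hm
  obtain ⟨K, w, hw⟩ := Submodule.fg_iff_exists_fin_generating_family.mp
    (Module.FinitePresentation.fg_ker _ hs)
  exact ⟨N, K, m, w, hm, hw.symm⟩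

section
variable {R : Type u} [CommRing R] {M : Type u} [AddCommGroup M] [Module R M]
variable {ι κ : Type} [Fintype ι]

theorem finitePresentation_of_pres [Finite κ] (h : Pres R M ι κ) : Module.FinitePresentation R M := by
  obtain ⟨m, w, hm, hw⟩ := h
  refine Module.finitePresentation_of_surjective (Fintype.linearCombination R m) ?_ ?_
  · rw [← LinearMap.range_eq_top, Fintype.range_linearCombination]
    exact hm
  · rw [hw]
    exact Submodule.fg_span (Set.finite_range w)

/-- Presentations base change. -/
theorem Pres.baseChange (h : Pres R M ι κ) {S : Type u} [CommRing S] [Algebra R S] {M' : Type u}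
    [AddCommGroup M'] [Module R M'] [Module S M'] [IsScalarTower R S M'] {ψ : M →ₗ[R] M'}
    (hψ : IsBaseChange S ψ) : Pres S M' ι κ := by
  classical
  obtain ⟨m, w, hm, hw⟩ := h
  let w' : κ → ι → S := fun l j => algebraMap R S (w l j)
  have hspan : span S (range fun j => ψ (m j)) = ⊤ := by
    refine eq_top_iff.mpr fun z hz => ?_
    clear hz
    induction z using hψ.inductionOn with
    | zero => exact zero_mem _
    | tmul x =>
      obtain ⟨c, rfl⟩ := (mem_span_range_iff_exists_fun R).mp (hm.ge (mem_top (x := x)))
      rw [map_sum]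
      refine sum_mem fun j _ => ?_
      rw [map_smul, ← algebraMap_smul S (c j) (ψ (m j))]
      exact smul_mem _ _ (subset_span ⟨j, rfl⟩)
    | smul s n hn => exact smul_mem _ s hn
    | add a b ha hb => exact add_mem ha hb
  refine ⟨fun j => ψ (m j), w', hspan, le_antisymm ?_ (span_le.mpr ?_)⟩
  · intro c hc
    let Q : Submodule S (ι → S) := span S (range w')
    let q : (ι → S) →ₗ[S] (ι → S) ⧸ Q := Q.mkQ
    let u : (ι → R) →ₗ[R] (ι → S) ⧸ Q :=
      (q.restrictScalars R).comp (LinearMap.compLeft (Algebra.linearMap R S) ι)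
    have hker : LinearMap.ker (Fintype.linearCombination R m) ≤ LinearMap.ker u := by
      rw [hw, span_le]
      rintro _ ⟨l, rfl⟩
      exact (Quotient.mk_eq_zero Q).mpr (subset_span ⟨l, rfl⟩)
    have hs : Function.Surjective (Fintype.linearCombination R m) := by
      rw [← LinearMap.range_eq_top, Fintype.range_linearCombination]
      exact hm
    let h0 : M →ₗ[R] (ι → S) ⧸ Q :=
      ((LinearMap.ker (Fintype.linearCombination R m)).liftQ u hker).comp
        ((Fintype.linearCombination R m).quotKerEquivOfSurjective hs).symm.toLinearMap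
    have h0m : ∀ j, h0 (m j) = q (Pi.single j 1) := fun j => by
      have e : Fintype.linearCombination R m (Pi.single j 1) = m j := by simp
      have e' : ((Fintype.linearCombination R m).quotKerEquivOfSurjective hs).symm (m j) =
          Submodule.Quotient.mk (Pi.single j 1) := by
        rw [LinearEquiv.symm_apply_eq]
        exact e.symm
      change ((LinearMap.ker (Fintype.linearCombination R m)).liftQ u hker) _ = _
      rw [LinearEquiv.coe_toLinearMap, e', liftQ_apply]
      change q _ = q _
      congr 1
      funext k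
      by_cases hk : k = j
      · subst hk; simp
      · simp [hk]
    let g : M' →ₗ[S] (ι → S) ⧸ Q := hψ.lift h0
    have hg : ∀ j, g (ψ (m j)) = q (Pi.single j 1) := fun j => (hψ.lift_eq h0 _).trans (h0m j)
    refine (Quotient.mk_eq_zero Q).mp ?_
    have hc' : ∑ j, c j • ψ (m j) = 0 := by
      rw [LinearMap.mem_ker, Fintype.linearCombination_apply] at hc
      exact hc
    calc q c = q (∑ j, c j • Pi.single j 1) := by rw [← pi_eq_sum_univ' c]
      _ = ∑ j, c j • q (Pi.single j 1) := by rw [map_sum]; simp only [map_smul]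
      _ = g (∑ j, c j • ψ (m j)) := by rw [map_sum]; simp only [map_smul, hg]
      _ = 0 := by rw [hc', map_zero]
  · rintro _ ⟨l, rfl⟩
    rw [SetLike.mem_coe, LinearMap.mem_ker, Fintype.linearCombination_apply]
    have h0 : Fintype.linearCombination R m (w l) = 0 := by
      rw [← LinearMap.mem_ker, hw]
      exact subset_span ⟨l, rfl⟩
    rw [Fintype.linearCombination_apply] at h0
    simp only [w', algebraMap_smul, ← map_smul, ← map_sum, h0, map_zero]

/-- The kernel of any other finite family of generators needs at most `ι' + κ` generators. -/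
theorem Pres.change {ι' : Type} [Fintype ι'] (h : Pres R M ι κ) (m' : ι' → M)
    (hm' : span R (range m') = ⊤) :
    ∃ w' : ι' ⊕ κ → ι' → R,
      LinearMap.ker (Fintype.linearCombination R m') = span R (range w') := by
  classical
  obtain ⟨m, w, hm, hw⟩ := h
  let π := Fintype.linearCombination R m'
  let φ := Fintype.linearCombination R m
  choose uc huc using fun p => (mem_span_range_iff_exists_fun R).mp (hm.ge (mem_top (x := m' p)))
  choose vc hvc using fun j => (mem_span_range_iff_exists_fun R).mp (hm'.ge (mem_top (x := m j)))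
  let a : (ι' → R) →ₗ[R] (ι → R) := Fintype.linearCombination R uc
  let b : (ι → R) →ₗ[R] (ι' → R) := Fintype.linearCombination R vc
  have ha : ∀ x, φ (a x) = π x := fun x => by
    simp only [π, φ, a, Fintype.linearCombination_apply (R := R) (v := uc), map_sum, map_smul]
    rw [Fintype.linearCombination_apply]
    exact Finset.sum_congr rfl fun p _ => by rw [Fintype.linearCombination_apply, huc]
  have hb : ∀ x, π (b x) = φ x := fun x => by
    simp only [π, φ, b, Fintype.linearCombination_apply (R := R) (v := vc), map_sum, map_smul]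
    rw [Fintype.linearCombination_apply]
    exact Finset.sum_congr rfl fun p _ => by rw [Fintype.linearCombination_apply, hvc]
  refine ⟨Sum.elim (fun p => Pi.single p 1 - b (a (Pi.single p 1))) (fun l => b (w l)), le_antisymm ?_ ?_⟩
  · intro x hx
    have e : x = (∑ p, x p • (Pi.single p 1 - b (a (Pi.single p 1)))) + b (a x) := by
      have : b (a x) = ∑ p, x p • b (a (Pi.single p 1)) := by
        conv_lhs => rw [pi_eq_sum_univ' x]
        simp only [map_sum, map_smul]
      rw [this, ← Finset.sum_add_distrib]
      conv_lhs => rw [pi_eq_sum_univ' x]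
      exact Finset.sum_congr rfl fun p _ => by rw [smul_sub, sub_add_cancel]
    rw [e]
    refine add_mem (sum_mem fun p _ => smul_mem _ _ (subset_span ⟨Sum.inl p, rfl⟩)) ?_
    have : a x ∈ span R (range w) := by
      rw [← hw, LinearMap.mem_ker, ha]
      exact hx
    refine span_mono ?_ ((map_span b (range w)).le (mem_map_of_mem this))
    rintro _ ⟨_, ⟨l, rfl⟩, rfl⟩
    exact ⟨Sum.inr l, rfl⟩
  · rw [span_le]
    rintro _ ⟨p | l, rfl⟩
    · change π _ = 0
      rw [Sum.elim_inl, map_sub, hb, ha, sub_self]
    · change π _ = 0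
      rw [Sum.elim_inr, hb, ← LinearMap.mem_ker, hw]
      exact subset_span ⟨l, rfl⟩

end

section
variable {R : Type u} [CommRing R] {M : Type u} [AddCommGroup M] [Module R M] {A : Type} [Fintype A]

/-- Local presentations of bounded size give a global presentation of bounded size. -/
theorem pres_of_local (g : A → R) (hg : Ideal.span (range g) = ⊤)
    (S : A → Type u) [∀ a, CommRing (S a)] [∀ a, Algebra R (S a)]
    [∀ a, IsLocalization.Away (g a) (S a)]
    (M' : A → Type u) [∀ a, AddCommGroup (M' a)] [∀ a, Module R (M' a)] [∀ a, Module (S a) (M' a)]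
    [∀ a, IsScalarTower R (S a) (M' a)]
    (l : ∀ a, M →ₗ[R] M' a) [∀ a, IsLocalizedModule (Submonoid.powers (g a)) (l a)]
    (ι : A → Type) [∀ a, Fintype (ι a)] (κ : A → Type) (h : ∀ a, Pres (S a) (M' a) (ι a) (κ a)) :
    Pres R M (Σ a, ι a) (Σ a, (Σ b, ι b) ⊕ κ a) := by
  classical
  choose m w hm hw using h
  choose num hnum using fun a j => IsLocalizedModule.surj (Submonoid.powers (g a)) (l a) (m a j)
  let gens : (Σ a, ι a) → M := fun p => (num p.1 p.2).1
  have hloc : ∀ a, span (S a) (range fun p => l a (gens p)) = ⊤ := fun a => by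
    refine eq_top_iff.mpr ((hm a).ge.trans (span_le.mpr ?_))
    rintro _ ⟨j, rfl⟩
    have hu : IsUnit (algebraMap R (S a) ((num a j).2 : R)) :=
      IsLocalization.map_units (S a) (num a j).2
    obtain ⟨s, hs⟩ := hu
    have : m a j = (↑s⁻¹ : S a) • l a (gens ⟨a, j⟩) := by
      have e : l a (gens ⟨a, j⟩) = (s : S a) • m a j := by
        rw [hs, algebraMap_smul]
        exact (hnum a j).symm
      rw [e, smul_smul, Units.inv_mul, one_smul]
    rw [this]
    exact smul_mem _ _ (subset_span ⟨⟨a, j⟩, rfl⟩)
  have hgens : span R (range gens) = ⊤ := by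
    refine eq_top_iff.mpr fun x _ => ?_
    refine mem_of_span_eq_top_of_smul_pow_mem _ (range g) hg x ?_
    rintro ⟨_, a, rfl⟩
    obtain ⟨c, hc⟩ := (mem_span_range_iff_exists_fun (S a)).mp ((hloc a).ge (mem_top (x := l a x)))
    obtain ⟨d, hd⟩ := IsLocalization.exist_integer_multiples_of_finite (Submonoid.powers (g a)) c
    choose c' hc' using hd
    have : l a ((d : R) • x - ∑ p, c' p • gens p) = 0 := by
      rw [map_sub, map_sum, map_smul, ← hc, Finset.smul_sum, sub_eq_zero]
      refine Finset.sum_congr rfl fun p _ => ?_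
      rw [map_smul, ← algebraMap_smul (S a) (c' p), hc' p, smul_assoc]
    obtain ⟨t, ht⟩ := (IsLocalizedModule.eq_zero_iff (Submonoid.powers (g a)) (l a)).mp this
    obtain ⟨_, k, rfl⟩ := t
    obtain ⟨_, k', rfl⟩ := d
    refine ⟨k + k', ?_⟩
    change g a ^ k • (g a ^ k' • x - _) = 0 at ht
    rw [smul_sub, sub_eq_zero, smul_smul, ← pow_add] at ht
    change g a ^ (k + k') • x ∈ _
    rw [ht]
    exact smul_mem _ _ (sum_mem fun p _ => smul_mem _ _ (subset_span ⟨p, rfl⟩))
  choose w' hw' using fun a => Pres.change ⟨m a, w a, hm a, hw a⟩ (fun p => l a (gens p)) (hloc a)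
  -- clear denominators in the relations
  choose d hd using fun a l' => IsLocalization.exist_integer_multiples_of_finite
    (Submonoid.powers (g a)) (w' a l')
  choose num' hnum' using hd
  have hrel : ∀ a l', ∃ t : Submonoid.powers (g a),
      Fintype.linearCombination R gens ((t : R) • num' a l') = 0 := fun a l' => by
    have : l a (Fintype.linearCombination R gens (num' a l')) = 0 := by
      rw [Fintype.linearCombination_apply, map_sum]
      have e : Fintype.linearCombination (S a) (fun p => l a (gens p)) (w' a l') = 0 := by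
        rw [← LinearMap.mem_ker, hw']
        exact subset_span ⟨l', rfl⟩
      rw [Fintype.linearCombination_apply] at e
      refine Eq.trans ?_ ((congrArg (fun z => ((d a l' : R)) • z) e).trans (smul_zero _))
      rw [Finset.smul_sum]
      refine Finset.sum_congr rfl fun p _ => ?_
      rw [map_smul, ← algebraMap_smul (S a) (num' a l' p), hnum', smul_assoc]
    obtain ⟨t, ht⟩ := (IsLocalizedModule.eq_zero_iff (Submonoid.powers (g a)) (l a)).mp this
    exact ⟨t, by rw [map_smul]; exact ht⟩
  choose t ht using hrel
  let rel : (Σ a, (Σ b, ι b) ⊕ κ a) → (Σ b, ι b) → R := fun q => (t q.1 q.2 : R) • num' q.1 q.2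
  refine ⟨gens, rel, hgens, le_antisymm ?_ (span_le.mpr ?_)⟩
  · intro x hx
    refine mem_of_span_eq_top_of_smul_pow_mem _ (range g) hg x ?_
    rintro ⟨_, a, rfl⟩
    let x' : (Σ b, ι b) → S a := fun p => algebraMap R (S a) (x p)
    have hx' : x' ∈ span (S a) (range (w' a)) := by
      rw [← hw', LinearMap.mem_ker, Fintype.linearCombination_apply]
      rw [LinearMap.mem_ker, Fintype.linearCombination_apply] at hx
      simp only [x', algebraMap_smul, ← map_smul, ← map_sum, hx, map_zero]
    let P : Submodule R ((Σ b, ι b) → R) := span R (range rel)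
    let L : ((Σ b, ι b) → R) →ₗ[R] ((Σ b, ι b) → S a) :=
      LinearMap.compLeft (Algebra.linearMap R (S a)) _
    have key : ∀ z ∈ span (S a) (range (w' a)), ∃ k : ℕ, ∃ y ∈ P, L y = g a ^ k • z := by
      intro z hz
      induction hz using span_induction with
      | mem z hz =>
        obtain ⟨l', rfl⟩ := hz
        obtain ⟨k₁, hk₁⟩ := (t a l').2
        obtain ⟨k₂, hk₂⟩ := (d a l').2
        refine ⟨k₁ + k₂, rel ⟨a, l'⟩, subset_span ⟨⟨a, l'⟩, rfl⟩, ?_⟩
        funext p
        change algebraMap R (S a) ((t a l' : R) * num' a l' p) = g a ^ (k₁ + k₂) • w' a l' p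
        simp only [] at hk₁ hk₂
        rw [map_mul, hnum', pow_add, hk₁, hk₂, mul_smul, Algebra.smul_def (t a l' : R)]
      | zero => exact ⟨0, 0, zero_mem _, by simp⟩
      | add z z' _ _ hz hz' =>
        obtain ⟨k, y, hy, e⟩ := hz
        obtain ⟨k', y', hy', e'⟩ := hz'
        refine ⟨k + k', g a ^ k' • y + g a ^ k • y', add_mem (smul_mem _ _ hy) (smul_mem _ _ hy'), ?_⟩
        rw [map_add, map_smul, map_smul, e, e', smul_add, ← mul_smul, ← mul_smul, ← pow_add, ← pow_add,
          add_comm k' k]
      | smul c z _ hz =>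
        obtain ⟨k, y, hy, e⟩ := hz
        obtain ⟨⟨r, _, j, rfl⟩, hr⟩ := IsLocalization.surj (Submonoid.powers (g a)) c
        refine ⟨j + k, r • y, smul_mem _ _ hy, ?_⟩
        rw [map_smul, e, ← algebraMap_smul (S a) r, ← hr, mul_smul, algebraMap_smul,
          smul_smul (g a ^ j), ← pow_add, smul_comm]
    obtain ⟨k, y, hy, e⟩ := key _ hx'
    have h0 : ∀ p, ∃ j, g a ^ j * (g a ^ k * x p - y p) = 0 := fun p => by
      have : algebraMap R (S a) (g a ^ k * x p - y p) = 0 := by
        have e' := congrFun e p
        change algebraMap R (S a) (y p) = g a ^ k • algebraMap R (S a) (x p) at e'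
        rw [map_sub, e', Algebra.smul_def, map_mul, sub_self]
      obtain ⟨⟨_, j, rfl⟩, hj⟩ := (IsLocalization.map_eq_zero_iff (Submonoid.powers (g a)) (S a) _).mp this
      exact ⟨j, hj⟩
    choose j hj using h0
    let J := Finset.univ.sup j
    refine ⟨J + k, ?_⟩
    suffices hfin : g a ^ (J + k) • x = g a ^ J • y by rw [hfin]; exact smul_mem _ _ hy
    funext p
    rw [Pi.smul_apply, Pi.smul_apply, smul_eq_mul, smul_eq_mul, pow_add, mul_assoc, ← sub_eq_zero,
      ← mul_sub]
    obtain ⟨i, hi⟩ := Nat.exists_eq_add_of_le (Finset.le_sup (f := j) (Finset.mem_univ p))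
    change g a ^ J * _ = 0
    rw [show J = j p + i from hi, pow_add, mul_comm (g a ^ j p), mul_assoc, hj, mul_zero]
  · rintro _ ⟨q, rfl⟩
    exact ht q.1 q.2

/-- A product of modules with uniformly bounded presentations is finitely presented. -/
theorem finitePresentation_pi {I : Type u} {B : I → Type u} [∀ i, CommRing (B i)] {N : I → Type u}
    [∀ i, AddCommGroup (N i)] [∀ i, Module (B i) (N i)] {ι κ : Type} [Fintype ι] [Fintype κ]
    (h : ∀ i, Pres (B i) (N i) ι κ) : Module.FinitePresentation (∀ i, B i) (∀ i, N i) := by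
  classical
  choose m w hm hw using h
  refine finitePresentation_of_pres (κ := κ) ⟨fun j i => m i j, fun l j i => w i l j, ?_, le_antisymm ?_ ?_⟩
  · refine eq_top_iff.mpr fun x _ => ?_
    choose c hc using fun i => (mem_span_range_iff_exists_fun (B i)).mp ((hm i).ge (mem_top (x := x i)))
    refine (mem_span_range_iff_exists_fun (∀ i, B i)).mpr ⟨fun j i => c i j, ?_⟩
    funext i
    simpa using hc i
  · intro x hx
    have hx' : ∀ i, (fun j => x j i) ∈ span (B i) (range (w i)) := fun i => by
      rw [← hw, LinearMap.mem_ker, Fintype.linearCombination_apply]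
      simpa [Fintype.linearCombination_apply] using congrFun hx i
    choose c hc using fun i => (mem_span_range_iff_exists_fun (B i)).mp (hx' i)
    refine (mem_span_range_iff_exists_fun (∀ i, B i)).mpr ⟨fun l i => c i l, ?_⟩
    funext j i
    simpa using congrFun (hc i) j
  · rw [span_le]
    rintro _ ⟨l, rfl⟩
    rw [SetLike.mem_coe, LinearMap.mem_ker, Fintype.linearCombination_apply]
    funext i
    have : Fintype.linearCombination (B i) (m i) (w i l) = 0 := by
      rw [← LinearMap.mem_ker, hw]
      exact subset_span ⟨l, rfl⟩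
    simpa [Fintype.linearCombination_apply] using this

end

end AlgzCohLib
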