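import Groth.Agent.AlgzCohLib.Main
import Mathlib.RingTheory.AdicCompletion.Basic

/-!
# Algebraization over a complete ring
-/

set_option autoImplicit false
set_option linter.style.haveILetI false
set_option linter.unusedSectionVars false

universe u

open CategoryTheory CategoryTheory.Limits AlgebraicGeometry Opposite TopologicalSpace

noncomputable section

namespace AlgzCohLib

attribute [local instance 10000] selfOver

variable {A : Type u} [CommRing A] {I : Ideal A}

theorem span_top_of_tr_zero {G : Sys A} (hG : IsQuotTower I G) (n : ℕ) (N : Submodule A (G.obj (op n)))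
    (hN : N.map (ARSys.tr G (Nat.zero_le n)).hom = ⊤) : N = ⊤ := by
  have h1 : (⊤ : Submodule A (G.obj (op n))) ≤ N ⊔ I • ⊤ := by
    intro x _
    have hm : (ARSys.tr G (Nat.zero_le n)).hom x ∈ N.map (ARSys.tr G (Nat.zero_le n)).hom := hN ▸ trivial
    obtain ⟨y, hy, hxy⟩ := hm
    refine Submodule.mem_sup.mpr ⟨y, hy, x - y, ?_, add_sub_cancel _ _⟩
    have := hG.ker (Nat.zero_le n)
    rw [zero_add, pow_one] at this
    rw [← this, LinearMap.mem_ker, map_sub, hxy, sub_self]
  have h2 : ∀ l : ℕ, (⊤ : Submodule A (G.obj (op n))) ≤ N ⊔ I ^ l • ⊤ := by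
    intro l
    induction l with
    | zero => rw [pow_zero, Ideal.one_eq_top, Submodule.top_smul]; exact le_sup_right
    | succ l ih =>
      refine ih.trans (sup_le le_sup_left ?_)
      calc I ^ l • (⊤ : Submodule A (G.obj (op n))) ≤ I ^ l • (N ⊔ I • ⊤) := Submodule.smul_mono le_rfl h1
        _ = I ^ l • N ⊔ I ^ (l + 1) • ⊤ := by rw [Submodule.smul_sup, ← smul_assoc, smul_eq_mul, ← pow_succ]
        _ ≤ N ⊔ I ^ (l + 1) • ⊤ := sup_le_sup Submodule.smul_le_right le_rfl
  have h3 := h2 (n + 1)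
  rw [hG.killed, sup_bot_eq] at h3
  exact top_le_iff.mp h3

/-- The limit of a tower of quotients of finite modules over a complete ring is finite. -/
theorem finite_limit [IsPrecomplete I A] {G : Sys A} (hG : IsQuotTower I G) (hfin : Module.Finite A (G.obj (op 0))) :
    Module.Finite A ↑(limit G) := by
  classical
  obtain ⟨r, g, hg⟩ := Submodule.fg_iff_exists_fin_generating_family.mp hfin.fg_top
  choose x hx using fun i => hG.π_surjective 0 (g i)
  have hspan : ∀ n, Submodule.span A (Set.range fun i => (limit.π G (op n)).hom (x i)) = ⊤ := fun n => by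
    refine span_top_of_tr_zero hG n _ ?_
    rw [Submodule.map_span, ← Set.range_comp]
    exact (congrArg (fun v => Submodule.span A (Set.range v)) (funext fun i => (limit_π_tr _ _).trans (hx i))).trans hg
  refine ⟨⟨Finset.univ.image x, eq_top_iff.mpr fun z _ => ?_⟩⟩
  let P : ℕ → Type u := fun j => {w : ↑(limit G) // (limit.π G (op j)).hom w ∈ (I ^ j • ⊤ : Submodule A (G.obj (op j)))}
  have step : ∀ (j : ℕ) (w : P j), ∃ (c : Fin r → A) (w' : P (j + 1)),
      (∀ i, c i ∈ I ^ j) ∧ w.1 = (∑ i, c i • x i) + w'.1 := by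
    intro j w
    have h1 : (limit.π G (op j)).hom w.1 ∈
        I ^ j • Submodule.span A (Set.range fun i => (limit.π G (op j)).hom (x i)) := by rw [hspan j]; exact w.2
    obtain ⟨a, ha, hsum⟩ := (Submodule.mem_ideal_smul_span_iff_exists_sum _ _ _).mp h1
    refine ⟨fun i => a i, ⟨w.1 - ∑ i, a i • x i, ?_⟩, ha, (add_sub_cancel _ _).symm⟩
    rw [← hG.ker (Nat.le_succ j), LinearMap.mem_ker, limit_π_tr, map_sub, map_sum]
    simp only [map_smul]
    rw [Finsupp.sum_fintype _ _ (fun i => by simp)] at hsum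
    exact sub_eq_zero.mpr hsum.symm
  choose c w' hc hw using step
  let w : ∀ j, P j := fun j => Nat.rec (motive := P) ⟨z, by rw [pow_zero, Ideal.one_eq_top, Submodule.top_smul]; trivial⟩ w' j
  let f : Fin r → ℕ → A := fun i n => ∑ l ∈ Finset.range n, c l (w l) i
  have hcauchy : ∀ i, ∀ {p q : ℕ}, p ≤ q → f i p ≡ f i q [SMOD (I ^ p • ⊤ : Submodule A A)] := by
    intro i p q hpq
    rw [SModEq.sub_mem, show f i p - f i q = -(∑ l ∈ Finset.Ico p q, c l (w l) i) by
      rw [Finset.sum_Ico_eq_sub _ hpq, neg_sub]]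
    refine neg_mem (Submodule.sum_mem _ fun l hl => ?_)
    rw [smul_eq_mul, Ideal.mul_top]
    exact Ideal.pow_le_pow_right (Finset.mem_Ico.mp hl).1 (hc l (w l) i)
  choose C hC using fun i => IsPrecomplete.prec ‹IsPrecomplete I A› (hcauchy i)
  have hpart : ∀ j, z = (∑ i, f i j • x i) + (w j).1 := by
    intro j
    induction j with
    | zero => simp [f]; rfl
    | succ j ih =>
      simp only [f, Finset.sum_range_succ, add_smul, Finset.sum_add_distrib]
      rw [add_assoc]
      exact ih.trans (congrArg _ (hw j (w j)))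
  have : z = ∑ i, C i • x i := by
    refine limit_ext _ _ fun n => ?_
    have hz0 : (limit.π G (op n)).hom (w (n + 1)).1 = 0 := by
      have h1 := Submodule.mem_map_of_mem (f := (ARSys.tr G (Nat.le_succ n)).hom) (w (n + 1)).2
      rw [Submodule.map_smul'', limit_π_tr] at h1
      have h2 : (limit.π G (op n)).hom (w (n + 1)).1 ∈ (I ^ (n + 1) • ⊤ : Submodule A (G.obj (op n))) :=
        Submodule.smul_mono le_rfl le_top h1
      rwa [hG.killed, Submodule.mem_bot] at h2
    conv_lhs => rw [hpart (n + 1)]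
    rw [map_add, hz0, add_zero, map_sum, map_sum]
    refine Finset.sum_congr rfl fun i _ => ?_
    rw [map_smul, map_smul, ← sub_eq_zero, ← sub_smul]
    have hd : f i (n + 1) - C i ∈ I ^ (n + 1) := by
      have := SModEq.sub_mem.mp (hC i (n + 1))
      rwa [smul_eq_mul, Ideal.mul_top] at this
    have h2 : (f i (n + 1) - C i) • (limit.π G (op n)).hom (x i) ∈ (I ^ (n + 1) • ⊤ : Submodule A (G.obj (op n))) :=
      Submodule.smul_mem_smul hd trivial
    rwa [hG.killed, Submodule.mem_bot] at h2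
  rw [this]
  exact Submodule.sum_mem _ fun i _ => Submodule.smul_mem _ _ (Submodule.subset_span (by simp))

theorem finite_ΓA {M : (Spec (CommRingCat.of A)).Modules} (hM : Coh.IsCoh M) :
    Module.Finite A ((ΓA A).obj M) := by
  haveI := hM.1
  obtain ⟨⟨T₀, hT⟩⟩ := QCohLib.finite_of_isFT hM.2 (isAffineOpen_top (Spec (CommRingCat.of A)))
  refine ⟨⟨(show Finset ((ΓA A).obj M) from T₀), eq_top_iff.mpr fun x _ => ?_⟩⟩
  let x' : Γ(M, ⊤) := x
  have hx : x' ∈ Submodule.span Γ(Spec (CommRingCat.of A), ⊤) (T₀ : Set Γ(M, ⊤)) := hT ▸ trivial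
  have key := Submodule.span_induction
    (p := fun (y : Γ(M, ⊤)) _ => (show (ΓA A).obj M from y) ∈
      Submodule.span A (show Set ((ΓA A).obj M) from (T₀ : Set Γ(M, ⊤))))
    (fun y hy => Submodule.subset_span hy) (Submodule.zero_mem _) (fun y y' _ _ => Submodule.add_mem _)
    (fun r y _ hy => by
      have hr : (Scheme.ΓSpecIso (CommRingCat.of A)).inv ((Scheme.ΓSpecIso (CommRingCat.of A)).hom r) = r :=
        ConcreteCategory.congr_hom (Scheme.ΓSpecIso (CommRingCat.of A)).hom_inv_id r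
      have h2 := Submodule.smul_mem _ ((Scheme.ΓSpecIso (CommRingCat.of A)).hom r : A) hy
      rw [← hr]
      exact h2) hx
  exact key

theorem isCoh_tilde (N : ModuleCat.{u} A) [Module.Finite A N] : Coh.IsCoh ((TA A).obj N) := by
  haveI hq : Coh.IsQCoh ((TA A).obj N) :=
    inferInstanceAs (tilde (R := CommRingCat.of A) N).IsQuasicoherent
  refine ⟨hq, QCohLib.isFT_of_finite fun p => ⟨⊤, isAffineOpen_top _, trivial, ?_⟩⟩
  obtain ⟨⟨T₀, hT⟩⟩ := (inferInstance : Module.Finite A N)
  classical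
  let η := ((adjA A).unit.app N).hom
  have hη : Function.Surjective η := (ConcreteCategory.bijective_of_isIso ((adjA A).unit.app N)).2
  refine ⟨⟨T₀.image (fun t => (show Γ((TA A).obj N, ⊤) from η t)), eq_top_iff.mpr fun y _ => ?_⟩⟩
  obtain ⟨n, hn⟩ := hη y
  have hmem : n ∈ Submodule.span A (T₀ : Set N) := hT ▸ trivial
  rw [← hn]
  refine Submodule.span_induction
    (p := fun t _ => (show Γ((TA A).obj N, ⊤) from η t) ∈
      Submodule.span Γ(Spec (CommRingCat.of A), ⊤)
        ((T₀.image (fun t => (show Γ((TA A).obj N, ⊤) from η t))) : Set Γ((TA A).obj N, ⊤)))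
    (fun t ht => Submodule.subset_span (Finset.mem_coe.mpr (Finset.mem_image_of_mem _ ht))) ?_ ?_ ?_ hmem
  · exact (map_zero η).symm ▸ Submodule.zero_mem _
  · intro t t' _ _ ht ht'
    exact (map_add η t t').symm ▸ Submodule.add_mem _ ht ht'
  · intro a t _ ht
    exact (map_smul η a t).symm ▸ Submodule.smul_mem _ ((Scheme.ΓSpecIso (CommRingCat.of A)).inv a) ht

variable [IsNoetherianRing A] {U : (Spec (CommRingCat.of A)).Opens}

theorem exists_coh_completion_iso [IsPrecomplete I A] {G : ℕᵒᵖ ⥤ (U : Scheme.{u}).Modules}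
    (h : Algz.Extends I U G) :
    ∃ F : (U : Scheme.{u}).Modules, Coh.IsCoh F ∧ Nonempty (Formal.completion I F ≅ G) := by
  obtain ⟨G', hG', ⟨e⟩⟩ := h
  let M : Sys A := G' ⋙ ΓA A
  have hM : IsQuotTower I M := isQuotTower_Γ hG'
  haveI : Module.Finite A ↑(limit M) := finite_limit hM (finite_ΓA (hG'.1 0))
  let ρ : ∀ n, (TA A).obj (limit M) ⟶ G'.obj (op n) := fun n =>
    (TA A).map (limit.π M (op n)) ≫ (adjA A).counit.app (G'.obj (op n))
  have hρ : ∀ n, ρ (n + 1) ≫ ARSys.tr G' (Nat.le_succ n) = ρ n := fun n => by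
    show ((TA A).map (limit.π M (op (n + 1))) ≫ (adjA A).counit.app (G'.obj (op (n + 1)))) ≫ _ =
      (TA A).map (limit.π M (op n)) ≫ (adjA A).counit.app (G'.obj (op n))
    rw [← limit.w M (homOfLE (Nat.le_succ n)).op, Functor.map_comp, Category.assoc, Category.assoc]
    exact congrArg (_ ≫ ·) ((adjA A).counit.naturality (ARSys.tr G' (Nat.le_succ n))).symm
  have hq : ∀ n, IsModQuot (I ^ (n + 1)) (ρ n) := fun n => by
    haveI := (hG'.1 n).1
    haveI := isIso_counit (G'.obj (op n))
    refine (isModQuot_tilde (limit.π M (op n)) (hM.π_surjective n) (le_antisymm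
      (hM.ker_π_le (IsNoetherian.noetherian I) n) ?_)).comp_iso (asIso ((adjA A).counit.app (G'.obj (op n))))
    refine Submodule.smul_le.mpr fun a ha x _ => ?_
    rw [LinearMap.mem_ker, map_smul, ← Submodule.mem_bot A, ← hM.killed n]
    exact Submodule.smul_mem_smul ha trivial
  obtain ⟨e₁⟩ := nonempty_completion_iso _ G' ρ hρ hq
  obtain ⟨e₂⟩ := nonempty_restrict_completion (I := I) (U := U) ((TA A).obj (limit M))
  exact ⟨_, CohGenLib.isCoh_restrict U.ι (isCoh_tilde (limit M)),
    ⟨e₂ ≪≫ Functor.isoWhiskerRight e₁ _ ≪≫ e⟩⟩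

end AlgzCohLib
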