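import Groth.Agent.AlgzCohLib.Complete
import Groth.Agent.FlatRelPCLib.Basic
import Groth.Prelude.Def_Formal2

/-!
# The limit of the sections of a coherent formal module on an open of an affine scheme
-/

set_option autoImplicit false
set_option linter.style.haveILetI false
set_option linter.unusedSectionVars false

universe u

open CategoryTheory CategoryTheory.Limits AlgebraicGeometry Opposite TopologicalSpace

noncomputable section

namespace AlgzCohLib

attribute [local instance 10000] selfOver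

variable {A : Type u} [CommRing A] {I : Ideal A}

theorem range_le_of_imageSubobject_le {M M' N : ModuleCat.{u} A} (f : M ⟶ N) (g : M' ⟶ N)
    (h : imageSubobject f ≤ imageSubobject g) : LinearMap.range f.hom ≤ LinearMap.range g.hom := by
  rintro _ ⟨x, rfl⟩
  have hs : Function.Surjective (factorThruImageSubobject g).hom := (ModuleCat.epi_iff_surjective _).mp inferInstance
  obtain ⟨y, hy⟩ := hs ((Subobject.ofLE _ _ h).hom ((factorThruImageSubobject f).hom x))
  refine ⟨y, ?_⟩
  conv_lhs => rw [← imageSubobject_arrow_comp g, ModuleCat.hom_comp, LinearMap.comp_apply, hy]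
  rw [← LinearMap.comp_apply (imageSubobject g).arrow.hom, ← ModuleCat.hom_comp, Subobject.ofLE_arrow,
    ← LinearMap.comp_apply, ← ModuleCat.hom_comp, imageSubobject_arrow_comp]

variable {X : Sys A}

/-- For a Mittag-Leffler tower the stable image is the image of the limit. -/
theorem exists_stable (hX : ARSys.IsML X) (n : ℕ) : ∃ r, n ≤ r ∧ ∀ s (h : n ≤ s), r ≤ s →
    LinearMap.range (ARSys.tr X h).hom = LinearMap.range (limit.π X (op n)).hom := by
  choose r₀ hr₀ using hX
  let R : ℕ → ℕ := fun n => n + r₀ n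
  have hst : ∀ n s (h : n ≤ s), R n ≤ s →
      LinearMap.range (ARSys.tr X h).hom = LinearMap.range (ARSys.tr X (Nat.le_add_right n (r₀ n))).hom := by
    intro n s h hs
    obtain ⟨t, rfl⟩ := Nat.exists_eq_add_of_le h
    have e := hr₀ n t (Nat.le_of_add_le_add_left hs)
    exact le_antisymm (range_le_of_imageSubobject_le _ _ e.le) (range_le_of_imageSubobject_le _ _ e.ge)
  let E : ∀ n, Submodule A (X.obj (op n)) := fun n => LinearMap.range (ARSys.tr X (Nat.le_add_right n (r₀ n))).hom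
  refine ⟨R n, Nat.le_add_right _ _, fun s h hs => (hst n s h hs).trans (le_antisymm ?_ ?_)⟩
  · intro x hx
    have hlift : ∀ (k : ℕ) (y : E k), ∃ z : E (k + 1), (ARSys.tr X (Nat.le_succ k)).hom z.1 = y.1 := by
      intro k y
      let N := max (R k) (R (k + 1))
      have hy : y.1 ∈ LinearMap.range (ARSys.tr X (show k ≤ N by simp only [N, R]; omega)).hom :=
        (hst k N _ (le_max_left _ _)).symm ▸ y.2
      obtain ⟨w, hw⟩ := hy
      have hN1 : k + 1 ≤ N := by simp only [N, R]; omega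
      refine ⟨⟨(ARSys.tr X hN1).hom w,
        (le_of_eq (hst (k + 1) N hN1 (le_max_right _ _))) ⟨w, rfl⟩⟩, ?_⟩
      rw [tr_tr]
      exact hw
    choose l hl using fun j => hlift (n + j)
    let e : ∀ j, E (n + j) := fun j => Nat.rec (motive := fun j => E (n + j)) ⟨x, hx⟩ l j
    obtain ⟨z, hz⟩ := exists_limit_elem (fun j => (ARSys.tr X (Nat.le_add_left j n)).hom (e j).1) fun j => by
      show (ARSys.tr X (Nat.le_succ j)).hom ((ARSys.tr X (Nat.le_add_left (j + 1) n)).hom (l j (e j)).1) = _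
      rw [tr_tr]
      conv_rhs => rw [← hl j (e j)]
      rw [tr_tr]
    refine ⟨z, ?_⟩
    have key : ∀ j, (ARSys.tr X (Nat.le_add_right n j)).hom (e j).1 = x := by
      intro j
      induction j with
      | zero => exact tr_refl n x
      | succ j ih =>
        show (ARSys.tr X _).hom (l j (e j)).1 = x
        rw [← tr_tr (Nat.le_add_right n j) (Nat.le_succ (n + j)), hl, ih]
    exact (hz n).trans (key n)
  · rintro _ ⟨z, rfl⟩
    exact ⟨(limit.π X (op (n + r₀ n))).hom z, limit_π_tr _ z⟩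

section Quot

variable (I) (L : ModuleCat.{u} A)

/-- The tower `L / I^(n+1) L`. -/
def qsys : Sys A :=
  Functor.ofOpSequence (X := fun n => ModuleCat.of A (Formal2.quotPow A I L n))
    (fun n => ModuleCat.ofHom (Formal2.quotPowTrans A I L n))

theorem qsys_tr_mk {n N : ℕ} (h : n ≤ N) (x : L) :
    (ARSys.tr (qsys I L) h).hom (Formal2.quotPowπ A I L N x) = Formal2.quotPowπ A I L n x := by
  induction h with
  | refl => exact tr_refl (G := qsys I L) n _
  | @step N hN ih =>
    rw [← tr_tr hN (Nat.le_succ N) (G := qsys I L),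
      show ARSys.tr (qsys I L) (Nat.le_succ N) = ModuleCat.ofHom (Formal2.quotPowTrans A I L N) from
        Functor.ofOpSequence_map_homOfLE_succ _ N]
    exact ih

theorem isQuotTower_qsys : IsQuotTower I (qsys I L) := by
  refine ⟨fun {n N} h y => ?_, fun {n N} h => ?_⟩
  · obtain ⟨x, rfl⟩ := Submodule.mkQ_surjective _ y
    exact ⟨Formal2.quotPowπ A I L N x, qsys_tr_mk I L h x⟩
  · refine le_antisymm (fun y hy => ?_) (Submodule.smul_le.mpr fun a ha y _ => ?_)
    · obtain ⟨x, rfl⟩ := Submodule.mkQ_surjective _ y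
      have hx : x ∈ (I ^ (n + 1) • ⊤ : Submodule A L) :=
        (Submodule.Quotient.mk_eq_zero _).mp ((qsys_tr_mk I L h x).symm.trans (LinearMap.mem_ker.mp hy))
      have h2 := Submodule.mem_map_of_mem (f := Formal2.quotPowπ A I L N) hx
      rw [Submodule.map_smul''] at h2
      exact Submodule.smul_mono le_rfl le_top h2
    · obtain ⟨x, rfl⟩ := Submodule.mkQ_surjective _ y
      rw [LinearMap.mem_ker]
      refine (map_smul (ARSys.tr (qsys I L) h).hom a _).trans ?_
      refine (congrArg (a • ·) (qsys_tr_mk I L h x)).trans ?_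
      exact (Submodule.Quotient.mk_eq_zero _).mpr (Submodule.smul_mem_smul ha trivial)

end Quot

/-- The image of the limit in a term. -/
def imObj (X : Sys A) (n : ℕ) : ModuleCat.{u} A := ModuleCat.of A (LinearMap.range (limit.π X (op n)).hom)

/-- Its inclusion. -/
def imι (X : Sys A) (n : ℕ) : imObj X n ⟶ X.obj (op n) := ModuleCat.ofHom (Submodule.subtype _)

theorem imι_injective (X : Sys A) (n : ℕ) : Function.Injective (imι X n).hom := Submodule.injective_subtype _

theorem exists_factor_range (n : ℕ) {P : ModuleCat.{u} A} (f : P ⟶ X.obj (op n))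
    (hf : LinearMap.range f.hom = LinearMap.range (limit.π X (op n)).hom) :
    ∃ s : P ⟶ imObj X n, Epi s ∧ s ≫ imι X n = f := by
  refine ⟨ModuleCat.ofHom (LinearMap.codRestrict _ f.hom fun x => hf ▸ ⟨x, rfl⟩), ?_, rfl⟩
  rw [ModuleCat.epi_iff_surjective]
  rintro ⟨y, hy⟩
  obtain ⟨x, hx⟩ := hf.symm ▸ hy
  exact ⟨x, Subtype.ext hx⟩

theorem exists_im_hom {k n : ℕ} (hk : LinearMap.ker (limit.π X (op k)).hom ≤ I ^ (n + 1) • ⊤) :
    ∃ p : imObj X k ⟶ ModuleCat.of A (Formal2.quotPow A I ↑(limit X) n), Epi p ∧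
      ∀ s : limit X ⟶ imObj X k, s ≫ imι X k = limit.π X (op k) → s ≫ p = ModuleCat.ofHom (Formal2.quotPowπ A I _ n) := by
  have hh : LinearMap.ker (limit.π X (op k)).hom ≤ LinearMap.ker (Formal2.quotPowπ A I ↑(limit X) n) := fun z hz =>
    LinearMap.mem_ker.mpr ((Submodule.Quotient.mk_eq_zero _).mpr (hk hz))
  let e := LinearMap.quotKerEquivRange (limit.π X (op k)).hom
  let ψ := (Submodule.liftQ _ (Formal2.quotPowπ A I _ n) hh) ∘ₗ e.symm.toLinearMap
  have key : ∀ z, ψ ⟨(limit.π X (op k)).hom z, z, rfl⟩ = Formal2.quotPowπ A I _ n z := fun z => by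
    show Submodule.liftQ _ (Formal2.quotPowπ A I ↑(limit X) n) hh (e.symm ⟨_, _⟩) = _
    rw [show e.symm ⟨(limit.π X (op k)).hom z, z, rfl⟩ = Submodule.Quotient.mk z from
      (LinearEquiv.symm_apply_eq _).mpr rfl]
    rfl
  refine ⟨ModuleCat.ofHom ψ, (ModuleCat.epi_iff_surjective _).mpr fun y => ?_, fun s hs => ?_⟩
  · obtain ⟨z, rfl⟩ := Submodule.mkQ_surjective _ y
    exact ⟨_, key z⟩
  · refine ModuleCat.hom_ext (LinearMap.ext fun z => ?_)
    refine Eq.trans ?_ (key z)
    exact congrArg ψ (Subtype.ext (LinearMap.congr_fun (congrArg ModuleCat.Hom.hom hs) z))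

theorem exists_range_lift {k n : ℕ} (hk : LinearMap.ker (limit.π X (op k)).hom ≤ I ^ (n + 1) • ⊤) :
    ∃ ψ : LinearMap.range (limit.π X (op k)).hom →ₗ[A] Formal2.quotPow A I ↑(limit X) n,
      Function.Surjective ψ ∧ ∀ z, ψ ⟨(limit.π X (op k)).hom z, z, rfl⟩ = Formal2.quotPowπ A I _ n z := by
  have hh : LinearMap.ker (limit.π X (op k)).hom ≤ LinearMap.ker (Formal2.quotPowπ A I ↑(limit X) n) := fun z hz =>
    LinearMap.mem_ker.mpr ((Submodule.Quotient.mk_eq_zero _).mpr (hk hz))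
  let e := LinearMap.quotKerEquivRange (limit.π X (op k)).hom
  let ψ := (Submodule.liftQ _ (Formal2.quotPowπ A I _ n) hh) ∘ₗ e.symm.toLinearMap
  have key : ∀ z, ψ ⟨(limit.π X (op k)).hom z, z, rfl⟩ = Formal2.quotPowπ A I _ n z := fun z => by
    show Submodule.liftQ _ (Formal2.quotPowπ A I ↑(limit X) n) hh (e.symm ⟨_, _⟩) = _
    rw [show e.symm ⟨(limit.π X (op k)).hom z, z, rfl⟩ = Submodule.Quotient.mk z from
      (LinearEquiv.symm_apply_eq _).mpr rfl]
    rfl
  exact ⟨ψ, fun y => by obtain ⟨z, rfl⟩ := Submodule.mkQ_surjective _ y; exact ⟨_, key z⟩, key⟩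

theorem isProIsomorphic_qsys (hkill : ∀ k, (I ^ (k + 1) • ⊤ : Submodule A (X.obj (op k))) = ⊥) (hX : ARSys.IsML X)
    (hb : ∀ k : ℕ, ∃ n : ℕ, LinearMap.ker (limit.π X (op n)).hom ≤ I ^ k • (⊤ : Submodule A ↑(limit X))) :
    Algz.IsProIsomorphic X (qsys I (limit X)) := by
  choose k₀ hk₀ using hb
  choose r₀ hr₁ hr₀ using exists_stable hX
  let J : ℕ → ℕ := fun n => n + (Finset.range (n + 2)).sup k₀
  have hJm : Monotone J := fun a b h => Nat.add_le_add h (Finset.sup_mono (Finset.range_mono (by omega)))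
  have hkerJ : ∀ n, LinearMap.ker (limit.π X (op (J n))).hom ≤ I ^ (n + 1) • ⊤ := fun n z hz => by
    refine hk₀ (n + 1) (LinearMap.mem_ker.mpr ?_)
    have hle : k₀ (n + 1) ≤ J n :=
      (Finset.le_sup (f := k₀) (Finset.mem_range.mpr (Nat.lt_succ_self (n + 1)))).trans (Nat.le_add_left _ n)
    rw [← limit_π_tr hle z, LinearMap.mem_ker.mp hz, map_zero]
  let m : ℕ → ℕ := fun n => (Finset.range (n + 1)).sup fun i => r₀ (J i)
  have hmr : ∀ n, r₀ (J n) ≤ m n := fun n => Finset.le_sup (f := fun i => r₀ (J i)) (Finset.self_mem_range_succ n)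
  have hm : Monotone m := fun a b h => Finset.sup_mono (Finset.range_mono (by omega))
  have hmJ : ∀ n, J n ≤ m n := fun n => (hr₁ (J n)).trans (hmr n)
  have hle : ∀ n, n ≤ m n := fun n => (Nat.le_add_right _ _).trans (hmJ n)
  choose ψ hψs hψ using fun n => exists_range_lift (hkerJ n)
  have hlift : ∀ n (w : X.obj (op (m n))),
      (ARSys.tr X (hmJ n)).hom w ∈ LinearMap.range (limit.π X (op (J n))).hom := fun n w =>
    (hr₀ (J n) (m n) (hmJ n) (hmr n)) ▸ ⟨w, rfl⟩
  let a' : ∀ n, X.obj (op (m n)) ⟶ (qsys I (limit X)).obj (op n) := fun n =>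
    ModuleCat.ofHom (ψ n ∘ₗ LinearMap.codRestrict _ (ARSys.tr X (hmJ n)).hom (hlift n))
  have ha' : ∀ n w z, (limit.π X (op (J n))).hom z = (ARSys.tr X (hmJ n)).hom w →
      (a' n).hom w = Formal2.quotPowπ A I ↑(limit X) n z := fun n w z hz => by
    rw [← hψ n z]
    exact congrArg (ψ n) (Subtype.ext hz.symm)
  let a : DerCA.reindex X hm ⟶ qsys I (limit X) :=
    { app := fun n => a' n.unop
      naturality := fun i j f => by
        refine ModuleCat.hom_ext (LinearMap.ext fun w => ?_)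
        have h : j.unop ≤ i.unop := leOfHom f.unop
        show (a' j.unop).hom ((ARSys.tr X (hm h)).hom w) = (ARSys.tr (qsys I (limit X)) h).hom ((a' i.unop).hom w)
        obtain ⟨z, hz⟩ := hlift i.unop w
        rw [ha' i.unop w z hz]
        refine (ha' j.unop _ z ?_).trans (qsys_tr_mk I (limit X) h z).symm
        rw [← limit_π_tr (hJm h) z, hz, tr_tr, tr_tr] }
  refine ⟨m, hm, hle, a, fun n => ?_⟩
  have hker : (I ^ (m n + 1) • ⊤ : Submodule A ↑(limit X)) ≤ LinearMap.ker (limit.π X (op (m n))).hom := by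
    refine Submodule.smul_le.mpr fun c hc z _ => ?_
    rw [LinearMap.mem_ker, map_smul, ← Submodule.mem_bot A, ← hkill (m n)]
    exact Submodule.smul_mem_smul hc trivial
  let b : (qsys I (limit X)).obj (op (m n)) ⟶ X.obj (op (m n)) :=
    ModuleCat.ofHom (Submodule.liftQ _ (limit.π X (op (m n))).hom hker)
  refine ⟨m n, hle n, b, ?_, ?_⟩
  · refine ModuleCat.hom_ext (LinearMap.ext fun w => ?_)
    obtain ⟨z, hz⟩ := hlift (m n) w
    show b.hom ((a' (m n)).hom w) = (ARSys.tr X (hm (hle n))).hom w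
    rw [ha' (m n) w z hz]
    show (limit.π X (op (m n))).hom z = _
    rw [← limit_π_tr (Nat.le_add_right (m n) _) z, hz, tr_tr]
  · refine ModuleCat.hom_ext (LinearMap.ext fun y => ?_)
    obtain ⟨z, rfl⟩ := Submodule.mkQ_surjective _ y
    show (a' n).hom ((limit.π X (op (m n))).hom z) = _
    rw [ha' n _ z (limit_π_tr (hmJ n) z).symm]
    exact (qsys_tr_mk I (limit X) (hle n) z).symm

section Open

variable {U : (Spec (CommRingCat.of A)).Opens}

theorem killed_sectMod {G : ℕᵒᵖ ⥤ (U : Scheme.{u}).Modules} (hG : Formal.IsCohFormal I G) (k : ℕ) :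
    (I ^ (k + 1) • ⊤ : Submodule A ((Algz.sectMod A U G).obj (op k))) = ⊥ := by
  rw [eq_bot_iff, Submodule.smul_le]
  intro a ha x _
  have h : Formal.smulMod A ((Scheme.Modules.pushforward U.ι).obj (G.obj (op k))) a = 0 := by
    apply ((Scheme.Modules.restrictAdjunction U.ι).homEquiv _ (G.obj (op k))).symm.injective
    rw [Adjunction.homEquiv_counit, Adjunction.homEquiv_counit, Functor.map_zero, zero_comp, restrict_smulMod,
      ← smulMod_naturality, hG.2.1 k a ha, comp_zero]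
  rw [Submodule.mem_bot]
  refine (Γ_smulMod_apply _ a x).symm.trans ?_
  rw [h, Functor.map_zero]
  rfl

variable [IsNoetherianRing A]

theorem canonicallyExtends_of {G : ℕᵒᵖ ⥤ (U : Scheme.{u}).Modules} (hG : Formal.IsCohFormal I G)
    (ha : ARSys.IsML (Algz.sectMod A U G))
    (hb : ∀ k : ℕ, ∃ n : ℕ, LinearMap.ker (limit.π (Algz.sectMod A U G) (op n)).hom ≤
      I ^ k • (⊤ : Submodule A ↑(limit (Algz.sectMod A U G))))
    (hc : ∀ n : ℕ, Module.Finite A ↥(LinearMap.range (limit.π (Algz.sectMod A U G) (op n)).hom)) :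
    Algz.CanonicallyExtends A I U G := by
  let Q := qsys I (limit (Algz.sectMod A U G))
  have hQ : IsQuotTower I Q := isQuotTower_qsys I _
  haveI hfin : ∀ n, Module.Finite A (Q.obj (op n)) := fun n => by
    obtain ⟨k, hk⟩ := hb (n + 1)
    obtain ⟨ψ, hψ, -⟩ := exists_range_lift hk
    haveI := hc k
    exact Module.Finite.of_surjective ψ hψ
  refine ⟨Q ⋙ TA A, isCohFormal_of (fun n => isCoh_tilde _) (fun n a ha => ?_) (fun n => ?_),
    isProIsomorphic_map (TA A) (isProIsomorphic_qsys (killed_sectMod hG) ha hb)⟩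
  · refine map_eq_zero_of_killed fun y => ?_
    rw [← Submodule.mem_bot A, ← hQ.killed n]
    exact Submodule.smul_mem_smul ha trivial
  · exact isModQuot_tilde (ARSys.tr Q (Nat.le_succ n)) (hQ.surj _) (hQ.ker _)

/-- The adjoint of a map into the sections of a term. -/
def adjoint₂ (U : (Spec (CommRingCat.of A)).Opens) (G : ℕᵒᵖ ⥤ (U : Scheme.{u}).Modules) (n : ℕ)
    {P : ModuleCat.{u} A} (f : P ⟶ (Algz.sectMod A U G).obj (op n)) :
    (Scheme.Modules.restrictFunctor U.ι).obj ((TA A).obj P) ⟶ G.obj (op n) :=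
  ((Scheme.Modules.restrictAdjunction U.ι).homEquiv _ (G.obj (op n))).symm
    (((adjA A).homEquiv P ((Scheme.Modules.pushforward U.ι).obj (G.obj (op n)))).symm f)

omit [IsNoetherianRing A] in
theorem adjoint₂_comp {G : ℕᵒᵖ ⥤ (U : Scheme.{u}).Modules} (n : ℕ) {P P' : ModuleCat.{u} A} (g : P' ⟶ P)
    (f : P ⟶ (Algz.sectMod A U G).obj (op n)) :
    adjoint₂ U G n (g ≫ f) = (Scheme.Modules.restrictFunctor U.ι).map ((TA A).map g) ≫ adjoint₂ U G n f :=
  (congrArg _ ((adjA A).homEquiv_naturality_left_symm g f)).trans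
    ((Scheme.Modules.restrictAdjunction U.ι).homEquiv_naturality_left_symm _ _)

theorem isQCoh_push {G : ℕᵒᵖ ⥤ (U : Scheme.{u}).Modules} (hG : Formal.IsCohFormal I G) (n : ℕ) :
    Coh.IsQCoh ((Scheme.Modules.pushforward U.ι).obj (G.obj (op n))) :=
  haveI := (hG.1 n).1
  QCohLib.isQCoh_pushforward U.ι (G.obj (op n))

theorem isIso_adjoint₂_id {G : ℕᵒᵖ ⥤ (U : Scheme.{u}).Modules} (hG : Formal.IsCohFormal I G) (n : ℕ) :
    IsIso (adjoint₂ U G n (𝟙 _)) := by
  haveI := isQCoh_push hG n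
  haveI := isIso_counit ((Scheme.Modules.pushforward U.ι).obj (G.obj (op n)))
  rw [adjoint₂, Adjunction.homEquiv_counit, Adjunction.homEquiv_counit]
  haveI : IsIso ((Scheme.Modules.restrictAdjunction U.ι).counit.app (G.obj (op n))) := inferInstance
  haveI h1 : IsIso ((TA A).map (𝟙 ((Algz.sectMod A U G).obj (op n)))) :=
    @Functor.map_isIso _ _ _ _ _ _ (TA A) _ (IsIso.id _)
  refine @IsIso.comp_isIso _ _ _ _ _ _ _ ?_ inferInstance
  exact @Functor.map_isIso _ _ _ _ _ _ _ _ (@IsIso.comp_isIso _ _ _ _ _ _ _ h1 (isIso_counit _))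

theorem epi_adjoint₂_π {G : ℕᵒᵖ ⥤ (U : Scheme.{u}).Modules} (hG : Formal.IsCohFormal I G)
    (ha : ARSys.IsML (Algz.sectMod A U G)) (n : ℕ) :
    Epi (adjoint₂ U G n (limit.π (Algz.sectMod A U G) (op n))) := by
  obtain ⟨r, hr, hst⟩ := exists_stable ha n
  obtain ⟨s, hs, hsf⟩ := exists_factor_range n (ARSys.tr (Algz.sectMod A U G) hr) (hst r hr le_rfl)
  obtain ⟨s', hs', hsf'⟩ := exists_factor_range n (limit.π (Algz.sectMod A U G) (op n)) rfl
  have h1 : adjoint₂ U G n (ARSys.tr (Algz.sectMod A U G) hr) = adjoint₂ U G r (𝟙 _) ≫ ARSys.tr G hr := by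
    rw [adjoint₂, adjoint₂, ← Adjunction.homEquiv_naturality_right_symm]
    refine congrArg _ ?_
    rw [← Adjunction.homEquiv_naturality_right_symm]
    exact congrArg _ (Category.id_comp (ARSys.tr (Algz.sectMod A U G) hr)).symm
  haveI := isIso_adjoint₂_id hG r
  haveI := (tr_isModQuot hG hr).epi
  haveI h2 : Epi (adjoint₂ U G n (ARSys.tr (Algz.sectMod A U G) hr)) := h1 ▸ epi_comp _ _
  rw [← hsf, adjoint₂_comp] at h2
  haveI := h2
  haveI := epi_of_epi ((Scheme.Modules.restrictFunctor U.ι).map ((TA A).map s))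
    (adjoint₂ U G n (imι (Algz.sectMod A U G) n))
  haveI := hs'
  rw [← hsf', adjoint₂_comp]
  exact epi_comp _ _

omit [IsNoetherianRing A] in
theorem mono_tilde_map {P Q : ModuleCat.{u} A} (f : P ⟶ Q) (hf : Function.Injective f.hom) :
    Mono ((TA A).map f) := by
  haveI : Mono f := (ModuleCat.mono_iff_injective f).mpr hf
  haveI : PreservesFiniteLimits (TA A) := Groth.Agent.FlatRelPCLib.tildeExact (CommRingCat.of A)
  infer_instance

omit [IsNoetherianRing A] in
theorem isQCoh_restrict_tilde (N : ModuleCat.{u} A) :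
    Coh.IsQCoh ((Scheme.Modules.restrictFunctor U.ι).obj ((TA A).obj N)) :=
  haveI : Coh.IsQCoh ((TA A).obj N) := inferInstanceAs (tilde (R := CommRingCat.of A) N).IsQuasicoherent
  haveI : Coh.IsQCoh ((Scheme.Modules.pullback U.ι).obj ((TA A).obj N)) := KFlatLib.isQCoh_pullback U.ι _
  QCohLib.isQCoh_of_iso ((Scheme.Modules.restrictFunctorIsoPullback U.ι).app ((TA A).obj N)).symm

theorem isCoh_quotPow {G : ℕᵒᵖ ⥤ (U : Scheme.{u}).Modules} (hG : Formal.IsCohFormal I G)
    (hb : ∀ k : ℕ, ∃ n : ℕ, LinearMap.ker (limit.π (Algz.sectMod A U G) (op n)).hom ≤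
      I ^ k • (⊤ : Submodule A ↑(limit (Algz.sectMod A U G)))) (n : ℕ) :
    Coh.IsCoh ((Scheme.Modules.restrictFunctor U.ι).obj
      (Formal2.tmod A (Formal2.quotPow A I ↑(limit (Algz.sectMod A U G)) n))) := by
  obtain ⟨k, hk⟩ := hb (n + 1)
  obtain ⟨p, hp, -⟩ := exists_im_hom hk
  let P := imObj (Algz.sectMod A U G) k
  let i : P ⟶ (Algz.sectMod A U G).obj (op k) := imι (Algz.sectMod A U G) k
  haveI := mono_tilde_map i (imι_injective _ k)
  haveI := isIso_adjoint₂_id hG k
  haveI : (Scheme.Modules.pushforward U.ι).IsRightAdjoint := (Scheme.Modules.restrictAdjunction U.ι).isRightAdjoint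
  haveI : Mono ((Scheme.Modules.restrictFunctor U.ι).map ((TA A).map i)) := inferInstance
  haveI : IsLocallyNoetherian (U : Scheme.{u}) := LocallyOfFiniteType.isLocallyNoetherian U.ι
  haveI hq : ∀ N : ModuleCat.{u} A, Coh.IsQCoh ((TA A).obj N) := fun N =>
    inferInstanceAs (tilde (R := CommRingCat.of A) N).IsQuasicoherent
  haveI : Mono ((Scheme.Modules.restrictFunctor U.ι).map ((TA A).map i) ≫ adjoint₂ U G k (𝟙 _)) := mono_comp _ _
  have hP : Coh.IsCoh ((Scheme.Modules.restrictFunctor U.ι).obj ((TA A).obj P)) :=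
    QCohLib.isCoh_of_mono ((Scheme.Modules.restrictFunctor U.ι).map ((TA A).map i) ≫ adjoint₂ U G k (𝟙 _)) (hG.1 k)
      (isQCoh_restrict_tilde _)
  haveI := hp
  haveI hT : Epi ((TA A).map p) := Functor.map_epi (TA A) p
  haveI : Epi ((Scheme.Modules.restrictFunctor U.ι).map ((TA A).map p)) :=
    Functor.map_epi (Scheme.Modules.restrictFunctor U.ι) ((TA A).map p)
  exact ⟨isQCoh_restrict_tilde _,
    @QCohLib.isFT_of_epi _ _ _ ((Scheme.Modules.restrictFunctor U.ι).map ((TA A).map p)) this hP.2⟩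

theorem eq_zero_of_compatible {G : ℕᵒᵖ ⥤ (U : Scheme.{u}).Modules} (hG : Formal.IsCohFormal I G)
    (hb : ∀ k : ℕ, ∃ n : ℕ, LinearMap.ker (limit.π (Algz.sectMod A U G) (op n)).hom ≤
      I ^ k • (⊤ : Submodule A ↑(limit (Algz.sectMod A U G))))
    (ℓ : ∀ n : ℕ, ModuleCat.of A (Formal2.quotPow A I ↑(limit (Algz.sectMod A U G)) n) ⟶ (Algz.sectMod A U G).obj (op n))
    (hℓ : ∀ n : ℕ, ModuleCat.ofHom (Formal2.quotPowπ A I ↑(limit (Algz.sectMod A U G)) n) ≫ ℓ n =
      limit.π (Algz.sectMod A U G) (op n))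
    (V : (Spec (CommRingCat.of A)).Opens)
    (x : ∀ n : ℕ, Γ((qsys I (limit (Algz.sectMod A U G)) ⋙ TA A).obj (op n), V))
    (hx : ∀ n, ((qsys I (limit (Algz.sectMod A U G)) ⋙ TA A).map (homOfLE (Nat.le_succ n)).op).app V (x (n + 1)) = x n)
    (h0 : ∀ n, (((adjA A).homEquiv _ ((Scheme.Modules.pushforward U.ι).obj (G.obj (op n)))).symm (ℓ n)).app V (x n) = 0)
    (n : ℕ) : x n = 0 := by
  obtain ⟨k, hk⟩ := hb (n + 1)
  let K := max n k
  have hnK : n ≤ K := le_max_left _ _
  have hK : LinearMap.ker (limit.π (Algz.sectMod A U G) (op K)).hom ≤ I ^ (n + 1) • ⊤ := fun z hz =>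
    hk (LinearMap.mem_ker.mpr (by
      rw [← limit_π_tr (le_max_right n k) z, LinearMap.mem_ker.mp hz, map_zero]))
  obtain ⟨p, -, hp⟩ := exists_im_hom hK
  let Q := qsys I (limit (Algz.sectMod A U G))
  have hxK : ∀ {m N : ℕ} (h : m ≤ N), ((TA A).map (ARSys.tr Q h)).app V (x N) = x m := by
    intro m N h
    induction h with
    | refl =>
      rw [show ARSys.tr Q (le_refl m) = 𝟙 _ from Q.map_id _, CategoryTheory.Functor.map_id]
      rfl
    | @step N hN ih =>
      rw [show ARSys.tr Q (Nat.le_succ_of_le hN) = ARSys.tr Q (Nat.le_succ N) ≫ ARSys.tr Q hN from Q.map_comp _ _,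
        Functor.map_comp]
      exact (congrArg (((TA A).map (ARSys.tr Q hN)).app V) (hx N)).trans ih
  let i : imObj (Algz.sectMod A U G) K ⟶ (Algz.sectMod A U G).obj (op K) := imι (Algz.sectMod A U G) K
  obtain ⟨ℓ', hℓ', hfac⟩ : ∃ ℓ' : Q.obj (op K) ⟶ imObj (Algz.sectMod A U G) K,
      ℓ' ≫ i = ℓ K ∧ ℓ' ≫ p = ARSys.tr Q hnK := by
    obtain ⟨s, -, hs⟩ := exists_factor_range K (limit.π (Algz.sectMod A U G) (op K)) rfl
    have hrange : LinearMap.range (ℓ K).hom = LinearMap.range (limit.π (Algz.sectMod A U G) (op K)).hom := by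
      refine le_antisymm ?_ ?_
      · rintro _ ⟨y, rfl⟩
        obtain ⟨z, rfl⟩ := Submodule.mkQ_surjective _ y
        exact ⟨z, (LinearMap.congr_fun (congrArg ModuleCat.Hom.hom (hℓ K)) z).symm⟩
      · rintro _ ⟨z, rfl⟩
        exact ⟨_, LinearMap.congr_fun (congrArg ModuleCat.Hom.hom (hℓ K)) z⟩
    obtain ⟨ℓ', -, hℓ'⟩ := exists_factor_range K (ℓ K) hrange
    refine ⟨ℓ', hℓ', ModuleCat.hom_ext (LinearMap.ext fun y => ?_)⟩
    obtain ⟨z, rfl⟩ := Submodule.mkQ_surjective _ y
    refine Eq.trans ?_ (qsys_tr_mk I _ hnK z).symm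
    refine Eq.trans ?_ (LinearMap.congr_fun (congrArg ModuleCat.Hom.hom (hp s hs)) z)
    have hmono : Function.Injective i.hom := imι_injective _ K
    refine congrArg p.hom (hmono ?_)
    exact (LinearMap.congr_fun (congrArg ModuleCat.Hom.hom hℓ') _).trans
      ((LinearMap.congr_fun (congrArg ModuleCat.Hom.hom (hℓ K)) z).trans
        (LinearMap.congr_fun (congrArg ModuleCat.Hom.hom hs) z).symm)
  haveI := mono_tilde_map i (imι_injective _ K)
  haveI := isQCoh_push hG K
  haveI := isIso_counit ((Scheme.Modules.pushforward U.ι).obj (G.obj (op K)))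
  have h1 : ((adjA A).homEquiv _ ((Scheme.Modules.pushforward U.ι).obj (G.obj (op K)))).symm (ℓ K) =
      (TA A).map ℓ' ≫ (TA A).map i ≫ (adjA A).counit.app _ := by
    rw [Adjunction.homEquiv_counit, ← Functor.map_comp_assoc, hℓ']
    rfl
  have h2 : ((TA A).map ℓ').app V (x K) = 0 := by
    haveI : Mono ((adjA A).counit.app ((Scheme.Modules.pushforward U.ι).obj (G.obj (op K)))) :=
      IsIso.mono_of_iso _
    haveI : Mono ((TA A).map i ≫ (adjA A).counit.app ((Scheme.Modules.pushforward U.ι).obj (G.obj (op K)))) :=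
      @mono_comp _ _ _ _ _ _ (mono_tilde_map i (imι_injective _ K)) _ this
    refine QCohLib.app_injective_of_mono
      ((TA A).map i ≫ (adjA A).counit.app ((Scheme.Modules.pushforward U.ι).obj (G.obj (op K)))) V ?_
    have h := h0 K
    rw [h1] at h
    exact h.trans (map_zero _).symm
  rw [← hxK hnK, ← hfac]
  refine (congrArg (fun φ => φ.app V (x K)) ((TA A).map_comp ℓ' p)).trans ?_
  exact (congrArg (((TA A).map p).app V) h2).trans (map_zero _)

end Open

end AlgzCohLib
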