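import Groth.Agent.AlgzCohLib.BaseChange
import Groth.Agent.AlgzCohLib.Limit
import Groth.Agent.SweepSix.TildePull
import Groth.Agent.AdicRingLib.Completion

/-!
# Algebraization and completion of the base ring
-/

set_option autoImplicit false
set_option linter.style.haveILetI false
set_option linter.unusedSectionVars false

universe u

open CategoryTheory CategoryTheory.Limits AlgebraicGeometry Opposite TopologicalSpace
open scoped TensorProduct

noncomputable section

namespace AlgzCohLib

attribute [local instance 10000] selfOver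

variable {A A' : Type u} [CommRing A] [CommRing A'] [Algebra A A']

/-- A ring map that is an isomorphism modulo `J`. -/
structure IsModIso (J : Ideal A) (A' : Type u) [CommRing A'] [Algebra A A'] : Prop where
  surj : ∀ b : A', ∃ a : A, b - algebraMap A A' a ∈ J.map (algebraMap A A')
  inj : ∀ a : A, algebraMap A A' a ∈ J.map (algebraMap A A') → a ∈ J

theorem bijective_tmul {J : Ideal A} (hJ : IsModIso J A') {M : Type u} [AddCommGroup M] [Module A M]
    (hk : ∀ a ∈ J, ∀ m : M, a • m = 0) : Function.Bijective fun m : M => (1 : A') ⊗ₜ[A] m := by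
  have hc : ∀ a a' : A, algebraMap A A' a - algebraMap A A' a' ∈ J.map (algebraMap A A') → ∀ m : M, a • m = a' • m :=
    fun a a' h m => by rw [← sub_eq_zero, ← sub_smul, hk _ (hJ.inj _ (by rwa [map_sub]))]
  choose g hg using hJ.surj
  have hkey : ∀ (b : A') (a : A), b - algebraMap A A' a ∈ J.map (algebraMap A A') → ∀ m : M, g b • m = a • m :=
    fun b a h => hc _ _ (by
      rw [show algebraMap A A' (g b) - algebraMap A A' a = (b - algebraMap A A' a) - (b - algebraMap A A' (g b)) by ring]
      exact sub_mem h (hg b))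
  let L : A' ⊗[A] M →ₗ[A] M := TensorProduct.lift (LinearMap.mk₂ A (fun b m => g b • m)
    (fun b b' m => by
      rw [← add_smul]
      refine hkey _ _ ?_ m
      rw [map_add, show b + b' - (algebraMap A A' (g b) + algebraMap A A' (g b')) =
        (b - algebraMap A A' (g b)) + (b' - algebraMap A A' (g b')) by ring]
      exact add_mem (hg b) (hg b'))
    (fun c b m => by
      rw [smul_smul]
      refine hkey _ _ ?_ m
      rw [map_mul, Algebra.smul_def, ← mul_sub]
      exact Ideal.mul_mem_left _ _ (hg b))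
    (fun b m m' => smul_add _ m m') (fun c b m => smul_comm _ c m))
  refine ⟨Function.LeftInverse.injective (g := L) fun m => ?_, fun t => ?_⟩
  · change g 1 • m = m
    refine (hkey 1 1 ?_ m).trans (one_smul A m)
    rw [map_one, sub_self]
    exact zero_mem _
  · induction t using TensorProduct.induction_on with
    | zero => exact ⟨0, TensorProduct.tmul_zero _ _⟩
    | tmul b m =>
      refine ⟨g b • m, ?_⟩
      change (1 : A') ⊗ₜ[A] (g b • m) = _
      rw [← TensorProduct.smul_tmul, Algebra.smul_def, mul_one]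
      have h0 : ∀ x ∈ J.map (algebraMap A A'), x ⊗ₜ[A] m = 0 := by
        intro x hx
        have h := Submodule.span_induction (p := fun y _ => ∀ c : A', (c * y) ⊗ₜ[A] m = 0)
          (by
            rintro _ ⟨a, ha, rfl⟩ c
            rw [mul_comm, ← Algebra.smul_def, TensorProduct.smul_tmul, hk a ha, TensorProduct.tmul_zero])
          (fun c => by rw [mul_zero, TensorProduct.zero_tmul])
          (fun y z _ _ hy hz c => by rw [mul_add, TensorProduct.add_tmul, hy, hz, add_zero])
          (fun d y _ hy c => by rw [smul_eq_mul, ← mul_assoc]; exact hy _) hx 1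
        rwa [one_mul] at h
      conv_rhs => rw [show b = algebraMap A A' (g b) + (b - algebraMap A A' (g b)) by ring,
        TensorProduct.add_tmul, h0 _ (hg b), add_zero]
    | add t t' h h' =>
      obtain ⟨m, rfl⟩ := h
      obtain ⟨m', rfl⟩ := h'
      exact ⟨m + m', TensorProduct.tmul_add _ _ _⟩

theorem smul_eq_zero_of_killed {P : (Spec (CommRingCat.of A)).Modules} {J : Ideal A} (hP : Formal.KilledBy J P)
    (a : A) (ha : a ∈ J) (x : (ΓA A).obj P) : a • x = 0 := by
  rw [← Γ_smulMod_apply P a x, hP a ha, Functor.map_zero]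
  rfl

theorem isIso_extUnit (φ : A →+* A') {J : Ideal A} (hs : ∀ b, ∃ a, b - φ a ∈ J.map φ)
    (hi : ∀ a, φ a ∈ J.map φ → a ∈ J) (X : ModuleCat.{u} A) (hk : ∀ a ∈ J, ∀ x : X, a • x = 0) :
    IsIso ((ModuleCat.extendRestrictScalarsAdj φ).unit.app X) := by
  letI := φ.toAlgebra
  exact (ConcreteCategory.isIso_iff_bijective _).mpr (bijective_tmul (A' := A') ⟨hs, hi⟩ hk)

/-- The unit on a quasi-coherent module, from the unit on its module of sections. -/
theorem isIso_unit_tilde {R S : CommRingCat.{u}} (φ : R ⟶ S) (P : (Spec R).Modules) [P.IsQuasicoherent]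
    (h : IsIso ((ModuleCat.extendRestrictScalarsAdj φ.hom).unit.app ((moduleSpecΓFunctor (R := R)).obj P))) :
    IsIso ((Scheme.Modules.pullbackPushforwardAdjunction (Spec.map φ)).unit.app P) := by
  let X := (moduleSpecΓFunctor (R := R)).obj P
  let adjP := Scheme.Modules.pullbackPushforwardAdjunction (Spec.map φ)
  let adj1 := ((tilde.adjunction (R := R)).comp adjP).ofNatIsoRight (SweepSix.pushforwardCompΓIso φ)
  let adj2 := (ModuleCat.extendRestrictScalarsAdj φ.hom).comp (tilde.adjunction (R := S))
  haveI h2 : IsIso (adj2.unit.app X) := by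
    rw [Adjunction.comp_unit_app]
    haveI := h
    infer_instance
  haveI h3 : IsIso (adj1.unit.app X) := by
    have e := Adjunction.unit_leftAdjointUniq_hom_app adj1 adj2 X
    haveI : IsIso (adj1.unit.app X ≫ (moduleSpecΓFunctor (R := S) ⋙ ModuleCat.restrictScalars φ.hom).map
        ((adj1.leftAdjointUniq adj2).hom.app X)) := by rw [e]; exact h2
    exact IsIso.of_isIso_comp_right (adj1.unit.app X) ((moduleSpecΓFunctor (R := S) ⋙ ModuleCat.restrictScalars φ.hom).map
      ((adj1.leftAdjointUniq adj2).hom.app X))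
  haveI h4 : IsIso (((tilde.adjunction (R := R)).comp adjP).unit.app X) := by
    have e : adj1.unit.app X = ((tilde.adjunction (R := R)).comp adjP).unit.app X ≫
        (SweepSix.pushforwardCompΓIso φ).hom.app ((Scheme.Modules.pullback (Spec.map φ)).obj ((tilde.functor R).obj X)) := by
      simp [adj1, Adjunction.ofNatIsoRight]
    exact @IsIso.of_isIso_comp_right _ _ _ _ _ _
      ((SweepSix.pushforwardCompΓIso φ).hom.app ((Scheme.Modules.pullback (Spec.map φ)).obj ((tilde.functor R).obj X)))
      inferInstance (e ▸ h3)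
  haveI h5 : IsIso ((moduleSpecΓFunctor (R := R)).map (adjP.unit.app ((tilde.functor R).obj X))) := by
    rw [Adjunction.comp_unit_app] at h4
    exact @IsIso.of_isIso_comp_left _ _ _ _ _ ((tilde.adjunction (R := R)).unit.app X) _ inferInstance h4
  haveI : ((tilde.functor R).obj X).IsQuasicoherent := inferInstanceAs (tilde X).IsQuasicoherent
  haveI : ((Scheme.Modules.pullback (Spec.map φ)).obj ((tilde.functor R).obj X)).IsQuasicoherent :=
    KFlatLib.isQCoh_pullback (Spec.map φ) _
  haveI hqP : ((Scheme.Modules.pullback (Spec.map φ) ⋙ Scheme.Modules.pushforward (Spec.map φ)).obj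
      ((tilde.functor R).obj X)).IsQuasicoherent :=
    QCohLib.isQCoh_pushforward (Spec.map φ) _
  haveI hc : ∀ (N : (Spec R).Modules) [N.IsQuasicoherent], IsIso ((tilde.adjunction (R := R)).counit.app N) :=
    fun N _ => Scheme.Modules.isIso_fromTildeΓ_of_isQuasicoherent N
  haveI h6 : IsIso (adjP.unit.app ((tilde.functor R).obj X)) := by
    haveI := hc ((tilde.functor R).obj X)
    haveI := @hc ((Scheme.Modules.pullback (Spec.map φ) ⋙ Scheme.Modules.pushforward (Spec.map φ)).obj
      ((tilde.functor R).obj X)) hqP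
    have e := (tilde.adjunction (R := R)).counit.naturality (adjP.unit.app ((tilde.functor R).obj X))
    haveI : IsIso ((tilde.adjunction (R := R)).counit.app ((tilde.functor R).obj X) ≫
        adjP.unit.app ((tilde.functor R).obj X)) := by
      haveI : IsIso ((moduleSpecΓFunctor (R := R) ⋙ tilde.functor R).map (adjP.unit.app ((tilde.functor R).obj X))) :=
        Functor.map_isIso (tilde.functor R) ((moduleSpecΓFunctor (R := R)).map _)
      exact e ▸ IsIso.comp_isIso
    exact IsIso.of_isIso_comp_left ((tilde.adjunction (R := R)).counit.app ((tilde.functor R).obj X)) _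
  haveI := hc P
  let c := (tilde.adjunction (R := R)).counit.app P
  have e := adjP.unit.naturality c
  haveI : IsIso c := hc P
  haveI : IsIso (c ≫ adjP.unit.app P) := by
    exact e.symm ▸ @IsIso.comp_isIso _ _ _ _ _ _ _ h6 (Functor.map_isIso _ c)
  exact IsIso.of_isIso_comp_left c _

/-- The unit is an isomorphism on modules killed by `J`. -/
theorem isIso_unit_of_killed {J : Ideal A} (hJ : IsModIso J A') {P : (Spec (CommRingCat.of A)).Modules}
    [Coh.IsQCoh P] (hP : Formal.KilledBy J P) :
    IsIso ((Scheme.Modules.pullbackPushforwardAdjunction (specMapA A A')).unit.app P) :=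
  haveI : P.IsQuasicoherent := ‹Coh.IsQCoh P›
  isIso_unit_tilde (CommRingCat.ofHom (algebraMap A A')) P
    (isIso_extUnit (algebraMap A A') hJ.surj hJ.inj ((ΓA A).obj P) (smul_eq_zero_of_killed hP))

theorem killed_push {U : (Spec (CommRingCat.of A)).Opens} {J : Ideal A} {N : (U : Scheme.{u}).Modules}
    (hN : Formal.KilledBy J N) : Formal.KilledBy J ((Scheme.Modules.pushforward U.ι).obj N) := by
  intro a ha
  apply ((Scheme.Modules.restrictAdjunction U.ι).homEquiv _ N).symm.injective
  rw [Adjunction.homEquiv_counit, Adjunction.homEquiv_counit, Functor.map_zero, zero_comp, restrict_smulMod,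
    ← smulMod_naturality, hN a ha, comp_zero]

theorem smul_Γ_push (N : (Spec (CommRingCat.of A')).Modules) (a : A)
    (x : (ΓA A).obj ((Scheme.Modules.pushforward (specMapA A A')).obj N)) :
    a • x = (show (ΓA A).obj ((Scheme.Modules.pushforward (specMapA A A')).obj N) from
      algebraMap A A' a • (show (ΓA A').obj N from x)) := by
  rw [← Γ_smulMod_apply ((Scheme.Modules.pushforward (specMapA A A')).obj N) a x, ← push_smulMod]
  exact Γ_smulMod_apply N (algebraMap A A' a) x

theorem isCohFormal_push {I : Ideal A} (hI : ∀ n : ℕ, IsModIso (I ^ (n + 1)) A') [IsNoetherianRing A]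
    {G : ℕᵒᵖ ⥤ (Spec (CommRingCat.of A')).Modules} (hG : Formal.IsCohFormal (I.map (algebraMap A A')) G) :
    Formal.IsCohFormal I (G ⋙ Scheme.Modules.pushforward (specMapA A A')) := by
  let push := Scheme.Modules.pushforward (specMapA A A')
  haveI hq : ∀ n, Coh.IsQCoh (push.obj (G.obj (op n))) := fun n =>
    haveI := (hG.1 n).1
    QCohLib.isQCoh_pushforward (specMapA A A') _
  haveI hc : ∀ n, IsIso ((adjA A).counit.app (push.obj (G.obj (op n)))) := fun n => isIso_counit _
  haveI : push.IsRightAdjoint := (Scheme.Modules.pullbackPushforwardAdjunction (specMapA A A')).isRightAdjoint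
  haveI : push.PreservesZeroMorphisms := Functor.preservesZeroMorphisms_of_isRightAdjoint _
  have hk : ∀ n, Formal.KilledBy (I ^ (n + 1)) (push.obj (G.obj (op n))) := fun n a ha => by
    rw [← push_smulMod, hG.2.1 n _ (by rw [← Ideal.map_pow]; exact Ideal.mem_map_of_mem _ ha), Functor.map_zero]
  let M : Sys A := G ⋙ push ⋙ ΓA A
  have hM' := isQuotTower_Γ hG
  have hker : ∀ {n N : ℕ} (h : n ≤ N), LinearMap.ker (ARSys.tr M h).hom = I ^ (n + 1) • ⊤ := by
    intro n N h
    refine le_antisymm (fun x hx => ?_) (Submodule.smul_le.mpr fun a ha x _ => ?_)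
    · let x' : (ΓA A').obj (G.obj (op N)) := x
      have hx' : x' ∈ LinearMap.ker (ARSys.tr (G ⋙ ΓA A') h).hom := hx
      rw [hM'.ker h, ← Ideal.map_pow] at hx'
      suffices key : (show M.obj (op N) from x') ∈ (I ^ (n + 1) • ⊤ : Submodule A (M.obj (op N))) from key
      let ι : (ΓA A').obj (G.obj (op N)) → M.obj (op N) := fun y => y
      refine Submodule.smul_induction_on (p := fun y => ι y ∈ (I ^ (n + 1) • ⊤ : Submodule A (M.obj (op N))))
        hx' ?_ ?_
      · intro b hb y _
        refine Submodule.span_induction (p := fun b _ => ∀ y : (ΓA A').obj (G.obj (op N)),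
          ι (b • y) ∈ (I ^ (n + 1) • ⊤ : Submodule A (M.obj (op N)))) ?_ ?_ ?_ ?_ hb y
        · rintro _ ⟨a, ha, rfl⟩ y
          have e := smul_Γ_push (G.obj (op N)) a (ι y)
          rw [show ι (algebraMap A A' a • y) = a • ι y from e.symm]
          exact Submodule.smul_mem_smul ha trivial
        · intro y
          rw [zero_smul]
          exact Submodule.zero_mem (I ^ (n + 1) • ⊤ : Submodule A (M.obj (op N)))
        · intro b c _ _ hb hc y
          rw [add_smul]
          exact Submodule.add_mem _ (hb y) (hc y)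
        · intro d b _ hb y
          rw [smul_eq_mul, mul_comm, mul_smul]
          exact hb _
      · exact fun y z hy hz => Submodule.add_mem _ hy hz
    · rw [LinearMap.mem_ker]
      show (ARSys.tr M h).hom (a • x) = 0
      rw [map_smul]
      exact smul_eq_zero_of_killed (hk n) a ha _
  refine isCohFormal_of (fun n => ?_) hk (fun n => ?_)
  · haveI : Module.Finite A (M.obj (op n)) := by
      obtain ⟨⟨T₀, hT⟩⟩ := finite_ΓA (hG.1 n)
      refine ⟨⟨(show Finset (M.obj (op n)) from T₀), eq_top_iff.mpr fun x _ => ?_⟩⟩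
      let x' : (ΓA A').obj (G.obj (op n)) := x
      have hx : x' ∈ Submodule.span A' (T₀ : Set ((ΓA A').obj (G.obj (op n)))) := hT ▸ trivial
      have key := Submodule.span_induction
        (p := fun (y : (ΓA A').obj (G.obj (op n))) _ => (show M.obj (op n) from y) ∈
          Submodule.span A (show Set (M.obj (op n)) from (T₀ : Set ((ΓA A').obj (G.obj (op n))))))
        (fun y hy => Submodule.subset_span hy) (Submodule.zero_mem _) (fun y y' _ _ => Submodule.add_mem _)
        (fun r y _ hy => by
          obtain ⟨a, ha⟩ := (hI n).surj r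
          have h0 : (r - algebraMap A A' a) • y = 0 :=
            smul_eq_zero_of_killed (J := (I ^ (n + 1)).map (algebraMap A A')) (by rw [Ideal.map_pow]; exact hG.2.1 n) _ ha y
          rw [sub_smul, sub_eq_zero] at h0
          have e := smul_Γ_push (G.obj (op n)) a (show M.obj (op n) from y)
          rw [h0, show (show M.obj (op n) from algebraMap A A' a • y) = a • (show M.obj (op n) from y) from e.symm]
          exact Submodule.smul_mem _ a hy) hx
      exact key
    exact QCohLib.isCoh_of_iso (asIso ((adjA A).counit.app (push.obj (G.obj (op n))))) (isCoh_tilde (M.obj (op n)))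
  · have hs : Function.Surjective (ARSys.tr M (Nat.le_succ n)).hom := hM'.surj (Nat.le_succ n)
    have h1 := ((isModQuot_tilde (ARSys.tr M (Nat.le_succ n)) hs (hker _)).comp_iso
      (asIso ((adjA A).counit.app (push.obj (G.obj (op n)))))).iso_comp
      (asIso ((adjA A).counit.app (push.obj (G.obj (op (n + 1)))))).symm
    have e : (asIso ((adjA A).counit.app (push.obj (G.obj (op (n + 1)))))).symm.hom ≫
        (TA A).map (ARSys.tr M (Nat.le_succ n)) ≫ (asIso ((adjA A).counit.app (push.obj (G.obj (op n))))).hom =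
        ARSys.tr (G ⋙ push) (Nat.le_succ n) := by
      show inv _ ≫ _ = _
      rw [IsIso.inv_comp_eq]
      exact (adjA A).counit.naturality (push.map (ARSys.tr G (Nat.le_succ n)))
    exact e ▸ h1

theorem isIso_restrict_push_unit (U : (Spec (CommRingCat.of A)).Opens) (M : (Spec (CommRingCat.of A')).Modules) :
    IsIso ((Scheme.Modules.restrictFunctor U.ι).map ((Scheme.Modules.pushforward (specMapA A A')).map
      ((Scheme.Modules.restrictAdjunction (specMapA A A' ⁻¹ᵁ U).ι).unit.app M))) := by
  set η := (Scheme.Modules.restrictAdjunction (specMapA A A' ⁻¹ᵁ U).ι).unit.app M with hη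
  set φm := (Scheme.Modules.restrictFunctor U.ι).map ((Scheme.Modules.pushforward (specMapA A A')).map η)
  have hbij : ∀ V, IsIso (((Scheme.Modules.toPresheaf (U : Scheme.{u})).map φm).app (op V)) := fun V => by
    show IsIso (η.app (specMapA A A' ⁻¹ᵁ (U.ι ''ᵁ V)))
    rw [hη, Scheme.Modules.restrictAdjunction_unit_app_app]
    have e : (specMapA A A' ⁻¹ᵁ U).ι ''ᵁ (specMapA A A' ⁻¹ᵁ U).ι ⁻¹ᵁ (specMapA A A' ⁻¹ᵁ (U.ι ''ᵁ V)) =
        specMapA A A' ⁻¹ᵁ (U.ι ''ᵁ V) := by
      refine le_antisymm (Scheme.Hom.image_preimage_le _ _) fun p hp => ?_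
      exact ⟨⟨p, U.ι_image_le V hp⟩, hp, rfl⟩
    rw [Subsingleton.elim (homOfLE (Scheme.Hom.image_preimage_le _ _)) (eqToHom e), eqToHom_op, eqToHom_map]
    exact ⟨⟨eqToHom (Eq.symm (congrArg _ (congrArg op e.symm))), eqToHom_trans _ _, eqToHom_trans _ _⟩⟩
  haveI : ∀ V, IsIso (((Scheme.Modules.toPresheaf (U : Scheme.{u})).map φm).app V) := fun V => hbij V.unop
  haveI : IsIso ((Scheme.Modules.toPresheaf (U : Scheme.{u})).map φm) := NatIso.isIso_of_isIso_app _
  exact isIso_of_reflects_iso φm (Scheme.Modules.toPresheaf (U : Scheme.{u}))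

theorem extends_baseChange {I : Ideal A} {U : (Spec (CommRingCat.of A)).Opens}
    {G : ℕᵒᵖ ⥤ (U : Scheme.{u}).Modules} (h : Algz.Extends I U G) :
    Algz.Extends (I.map (algebraMap A A')) (specMapA A A' ⁻¹ᵁ U)
      (G ⋙ Scheme.Modules.pullback (specMapA A A' ∣_ U)) := by
  obtain ⟨G', hG', ⟨e⟩⟩ := h
  let f := specMapA A A'
  let U' := f ⁻¹ᵁ U
  let c : Scheme.Modules.pullback f ⋙ Scheme.Modules.restrictFunctor U'.ι ≅
      Scheme.Modules.restrictFunctor U.ι ⋙ Scheme.Modules.pullback (f ∣_ U) :=
    Functor.isoWhiskerLeft _ (Scheme.Modules.restrictFunctorIsoPullback U'.ι) ≪≫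
      Scheme.Modules.pullbackComp U'.ι f ≪≫ Scheme.Modules.pullbackCongr (morphismRestrict_ι f U).symm ≪≫
      (Scheme.Modules.pullbackComp (f ∣_ U) U.ι).symm ≪≫
      (Functor.isoWhiskerRight (Scheme.Modules.restrictFunctorIsoPullback U.ι) _).symm
  exact ⟨G' ⋙ Scheme.Modules.pullback f, isCohFormal_pullback hG',
    ⟨Functor.associator _ _ _ ≪≫ Functor.isoWhiskerLeft G' c ≪≫ (Functor.associator _ _ _).symm ≪≫
      Functor.isoWhiskerRight e _⟩⟩

theorem extends_of_baseChange [IsNoetherianRing A] [Module.Flat A A'] {I : Ideal A}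
    (hI : ∀ n : ℕ, IsModIso (I ^ (n + 1)) A') {U : (Spec (CommRingCat.of A)).Opens}
    {G : ℕᵒᵖ ⥤ (U : Scheme.{u}).Modules} (hG : Formal.IsCohFormal I G)
    (h : Algz.Extends (I.map (algebraMap A A')) (specMapA A A' ⁻¹ᵁ U)
      (G ⋙ Scheme.Modules.pullback (specMapA A A' ∣_ U))) : Algz.Extends I U G := by
  obtain ⟨G'', hG'', ⟨e⟩⟩ := h
  let f := specMapA A A'
  let push := Scheme.Modules.pushforward f
  let P := G ⋙ Scheme.Modules.pushforward U.ι
  haveI hP : ∀ i, Coh.IsQCoh (P.obj i) := fun i =>
    haveI := (hG.1 i.unop).1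
    QCohLib.isQCoh_pushforward U.ι (G.obj i)
  let u := Functor.whiskerLeft P (Scheme.Modules.pullbackPushforwardAdjunction f).unit
  haveI : ∀ i, IsIso (u.app i) := fun i =>
    haveI := hP i
    isIso_unit_of_killed (hI i.unop) (killed_push (U := U) (hG.2.1 i.unop))
  haveI := NatIso.isIso_of_isIso_app u
  let γ := Functor.whiskerLeft G (bcNat (A' := A') U)
  haveI : ∀ i, IsIso (γ.app i) := fun i =>
    haveI := (hG.1 i.unop).1
    isIso_bcNat_app U (G.obj i)
  haveI := NatIso.isIso_of_isIso_app γ
  let R := Scheme.Modules.restrictFunctor U.ι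
  let η := Functor.whiskerRight (Functor.whiskerLeft G''
    (Scheme.Modules.restrictAdjunction (f ⁻¹ᵁ U).ι).unit) (push ⋙ R)
  haveI : ∀ i, IsIso (η.app i) := fun i => isIso_restrict_push_unit U (G''.obj i)
  haveI := NatIso.isIso_of_isIso_app η
  refine ⟨G'' ⋙ push, isCohFormal_push hI hG'', ⟨?_⟩⟩
  let e1 : (G ⋙ Scheme.Modules.pushforward U.ι) ⋙ R ≅ G :=
    Functor.associator _ _ _ ≪≫
      Functor.isoWhiskerLeft G (Scheme.Modules.restrictFunctorAdjCounitIso U.ι) ≪≫ G.rightUnitor
  refine ?_ ≪≫ e1
  refine asIso η ≪≫ ?_ ≪≫ (Functor.isoWhiskerRight (asIso u) R).symm ≪≫ Functor.isoWhiskerRight P.rightUnitor R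
  refine ?_ ≪≫ (Functor.isoWhiskerRight (Functor.isoWhiskerRight (asIso γ) push) R).symm ≪≫
    (Iso.refl _ : _ ≅ (P ⋙ Scheme.Modules.pullback f ⋙ push) ⋙ R)
  exact Functor.isoWhiskerRight (Functor.isoWhiskerRight
    (Functor.isoWhiskerRight e (Scheme.Modules.pushforward (f ⁻¹ᵁ U).ι)) push) R

end AlgzCohLib
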