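import Groth.Prelude.Def_ARSys
import Groth.Prelude.Def_DerCA
import Mathlib

/-!
# Towers of modules with `M_n = M_N / I^(n+1) M_N`, and towers pro-isomorphic to them
-/

set_option autoImplicit false
set_option linter.style.haveILetI false
set_option linter.unusedSectionVars false

universe u

open CategoryTheory CategoryTheory.Limits Opposite

noncomputable section

namespace AlgzCohLib

variable {A : Type u} [CommRing A]

abbrev Sys (A : Type u) [CommRing A] := ℕᵒᵖ ⥤ ModuleCat.{u} A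

theorem tr_tr {G : Sys A} {n m k : ℕ} (h : n ≤ m) (h' : m ≤ k) (x : G.obj (op k)) :
    (ARSys.tr G h).hom ((ARSys.tr G h').hom x) = (ARSys.tr G (h.trans h')).hom x := by
  rw [← LinearMap.comp_apply, ← ModuleCat.hom_comp, ← Functor.map_comp]
  rfl

theorem tr_refl {G : Sys A} (n : ℕ) (x : G.obj (op n)) : (ARSys.tr G (le_refl n)).hom x = x := by
  rw [show ARSys.tr G (le_refl n) = 𝟙 _ from G.map_id _]
  rfl

theorem limit_π_tr {G : Sys A} {n m : ℕ} (h : n ≤ m) (z : ↑(limit G)) :
    (ARSys.tr G h).hom ((limit.π G (op m)).hom z) = (limit.π G (op n)).hom z := by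
  rw [← LinearMap.comp_apply, ← ModuleCat.hom_comp, limit.w]

theorem limit_ext {G : Sys A} (z w : ↑(limit G))
    (h : ∀ n, (limit.π G (op n)).hom z = (limit.π G (op n)).hom w) : z = w :=
  Concrete.limit_ext G z w fun j => h j.unop

theorem exists_limit_elem {G : Sys A} (y : ∀ n, G.obj (op n))
    (hy : ∀ n, (ARSys.tr G (Nat.le_succ n)).hom (y (n + 1)) = y n) :
    ∃ z : ↑(limit G), ∀ n, (limit.π G (op n)).hom z = y n := by
  have hy' : ∀ {n N : ℕ} (h : n ≤ N), (ARSys.tr G h).hom (y N) = y n := by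
    intro n N h
    induction h with
    | refl => exact tr_refl n _
    | @step N hN ih => rw [← tr_tr hN (Nat.le_succ N), hy, ih]
  let c : Cone G :=
    { pt := ModuleCat.of A A
      π :=
        { app := fun n => ModuleCat.ofHom (LinearMap.toSpanSingleton A (G.obj n) (y n.unop))
          naturality := fun i j f => ModuleCat.hom_ext (LinearMap.ext_ring (by
            show (1 : A) • y j.unop = (G.map f).hom ((1 : A) • y i.unop)
            rw [one_smul, one_smul]
            exact (hy' (leOfHom f.unop)).symm)) } }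
  refine ⟨(limit.lift G c).hom (1 : A), fun n => ?_⟩
  rw [← LinearMap.comp_apply, ← ModuleCat.hom_comp, limit.lift_π]
  exact one_smul A _

/-- A tower with `M_n = M_N / I^(n+1) M_N`. -/
structure IsQuotTower (I : Ideal A) (G : Sys A) : Prop where
  surj : ∀ {n N : ℕ} (h : n ≤ N), Function.Surjective (ARSys.tr G h).hom
  ker : ∀ {n N : ℕ} (h : n ≤ N), LinearMap.ker (ARSys.tr G h).hom = I ^ (n + 1) • ⊤

variable {I : Ideal A} {G : Sys A}

theorem IsQuotTower.killed (hG : IsQuotTower I G) (n : ℕ) : (I ^ (n + 1) • ⊤ : Submodule A (G.obj (op n))) = ⊥ := by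
  rw [← hG.ker (le_refl n), LinearMap.ker_eq_bot']
  intro x hx
  rwa [tr_refl] at hx

theorem IsQuotTower.π_surjective (hG : IsQuotTower I G) (n : ℕ) :
    Function.Surjective (limit.π G (op n)).hom := by
  intro x
  choose l hl using fun (j : ℕ) (y : G.obj (op (n + j))) => hG.surj (Nat.le_succ (n + j)) y
  let s : ∀ j, G.obj (op (n + j)) := fun j => Nat.rec (motive := fun j => G.obj (op (n + j))) x l j
  obtain ⟨z, hz⟩ := exists_limit_elem (fun j => (ARSys.tr G (Nat.le_add_left j n)).hom (s j)) fun j => by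
    show (ARSys.tr G (Nat.le_succ j)).hom ((ARSys.tr G (Nat.le_add_left (j + 1) n)).hom (l j (s j))) = _
    rw [tr_tr]
    conv_rhs => rw [← hl j (s j)]
    rw [tr_tr]
  refine ⟨z, ?_⟩
  have key : ∀ j, (ARSys.tr G (Nat.le_add_right n j)).hom (s j) = x := by
    intro j
    induction j with
    | zero => exact tr_refl n x
    | succ j ih =>
      show (ARSys.tr G _).hom (l j (s j)) = x
      rw [← tr_tr (Nat.le_add_right n j) (Nat.le_succ (n + j)), hl, ih]
  exact (hz n).trans (key n)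

theorem exists_sum_eq {M : Type u} [AddCommGroup M] [Module A M] {ι : Type*} [Fintype ι] (a : ι → A)
    (N : Submodule A M) {x : M} (hx : x ∈ Ideal.span (Set.range a) • N) :
    ∃ w : ι → M, (∀ i, w i ∈ N) ∧ x = ∑ i, a i • w i := by
  refine Submodule.smul_induction_on hx (fun r hr m hm => ?_) fun p q hp hq => ?_
  · obtain ⟨c, hc⟩ := Ideal.mem_span_range_iff_exists_fun.mp hr
    refine ⟨fun i => c i • m, fun i => N.smul_mem _ hm, ?_⟩
    rw [← hc, Finset.sum_smul]
    exact Finset.sum_congr rfl fun i _ => by rw [mul_comm, mul_smul]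
  · obtain ⟨w, hw, rfl⟩ := hp
    obtain ⟨w', hw', rfl⟩ := hq
    exact ⟨w + w', fun i => N.add_mem (hw i) (hw' i), by simp [smul_add, Finset.sum_add_distrib]⟩

/-- The kernel of the projection from the limit is `I^(k+1)` times the limit. -/
theorem IsQuotTower.ker_π_le (hG : IsQuotTower I G) (hI : I.FG) (k : ℕ) :
    LinearMap.ker (limit.π G (op k)).hom ≤ I ^ (k + 1) • (⊤ : Submodule A ↑(limit G)) := by
  intro z hz
  obtain ⟨r, a, ha⟩ := Submodule.fg_iff_exists_fin_generating_family.mp (hI.pow (n := k + 1))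
  have ha' : Ideal.span (Set.range a) = I ^ (k + 1) := ha
  let P : ℕ → Type u := fun j => {w : ↑(limit G) // (limit.π G (op (k + j))).hom w = 0}
  have step : ∀ (j : ℕ) (w : P j), ∃ (y : Fin r → ↑(limit G)) (w' : P (j + 1)),
      (∀ m, m < j → ∀ i, (limit.π G (op m)).hom (y i) = 0) ∧ w.1 = (∑ i, a i • y i) + w'.1 := by
    intro j w
    have h1 : (limit.π G (op (k + j + 1))).hom w.1 ∈
        Ideal.span (Set.range a) • (I ^ j • ⊤ : Submodule A (G.obj (op (k + j + 1)))) := by
      rw [ha', ← smul_assoc, smul_eq_mul, ← pow_add, show k + 1 + j = k + j + 1 by omega,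
        ← hG.ker (Nat.le_succ (k + j)), LinearMap.mem_ker, limit_π_tr]
      exact w.2
    obtain ⟨v, hv, hsum⟩ := exists_sum_eq a _ h1
    choose y hy using fun i => hG.π_surjective (k + j + 1) (v i)
    refine ⟨y, ⟨w.1 - ∑ i, a i • y i, ?_⟩, fun m hm i => ?_, (add_sub_cancel _ _).symm⟩
    · show (limit.π G (op (k + j + 1))).hom _ = 0
      simp only [map_sub, map_sum, map_smul, hy]
      exact sub_eq_zero.mpr hsum
    · rw [← limit_π_tr (show m ≤ k + j + 1 by omega), hy]
      have : (ARSys.tr G (show m ≤ k + j + 1 by omega)).hom (v i) ∈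
          (I ^ (m + 1) • ⊤ : Submodule A (G.obj (op m))) := by
        have h2 := Submodule.mem_map_of_mem (f := (ARSys.tr G (show m ≤ k + j + 1 by omega)).hom) (hv i)
        rw [Submodule.map_smul''] at h2
        exact Submodule.smul_mono (Ideal.pow_le_pow_right (by omega)) le_top h2
      rwa [hG.killed, Submodule.mem_bot] at this
  choose y w' hy hw using step
  let w : ∀ j, P j := fun j => Nat.rec (motive := P) ⟨z, hz⟩ w' j
  have hpart : ∀ j, z = (∑ l ∈ Finset.range j, ∑ i, a i • y l (w l) i) + (w j).1 := by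
    intro j
    induction j with
    | zero => rw [Finset.sum_range_zero, zero_add]; rfl
    | succ j ih =>
      rw [Finset.sum_range_succ, add_assoc]
      exact ih.trans (congrArg _ (hw j (w j)))
  choose Y hY using fun i => exists_limit_elem
    (fun n => (limit.π G (op n)).hom (∑ l ∈ Finset.range (n + 1), y l (w l) i)) fun n => by
      rw [limit_π_tr, Finset.sum_range_succ, map_add, hy (n + 1) (w (n + 1)) n (Nat.lt_succ_self n) i, add_zero]
  have hzY : z = ∑ i, a i • Y i := by
    refine limit_ext _ _ fun n => ?_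
    conv_lhs => rw [hpart (n + 1)]
    rw [map_add, ← limit_π_tr (show n ≤ k + (n + 1) by omega) (w (n + 1)).1, (w (n + 1)).2, map_zero, add_zero]
    simp only [map_sum, map_smul, hY, Finset.smul_sum]
    exact Finset.sum_comm
  rw [hzY]
  exact Submodule.sum_mem _ fun i _ =>
    Submodule.smul_mem_smul (ha' ▸ Ideal.subset_span ⟨i, rfl⟩) trivial

section Pro

variable {X : Sys A}

theorem isQuotTower_pro_stable (hG : IsQuotTower I G) {m : ℕ → ℕ} (hm : Monotone m) (hle : ∀ n, n ≤ m n)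
    (a : DerCA.reindex X hm ⟶ G) (ha : DerCA.IsProIso a) (n : ℕ) :
    ∃ (J : ℕ) (hJ : n ≤ J) (c : G.obj (op J) ⟶ X.obj (op n)),
      ∀ s, m J ≤ s → ∃ (e : X.obj (op s) ⟶ G.obj (op J)) (h : n ≤ s), Epi e ∧ ARSys.tr X h = e ≫ c := by
  let a' : ∀ n, X.obj (op (m n)) ⟶ G.obj (op n) := fun n => a.app (op n)
  obtain ⟨J, hJ, b, h1, -⟩ : ∃ (J : ℕ) (hJ : n ≤ J) (b : G.obj (op J) ⟶ X.obj (op (m n))),
      a' J ≫ b = ARSys.tr X (hm hJ) ∧ b ≫ a' n = ARSys.tr G hJ := ha n
  refine ⟨J, hJ, b ≫ ARSys.tr X (hle n), fun s hs => ?_⟩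
  refine ⟨ARSys.tr X hs ≫ a' J, hJ.trans ((hle J).trans hs), ?_, ?_⟩
  · have hsJ : J ≤ s := (hle J).trans hs
    obtain ⟨K, hK, b', -, h2⟩ : ∃ (K : ℕ) (hK : s ≤ K) (b' : G.obj (op K) ⟶ X.obj (op (m s))),
        a' K ≫ b' = ARSys.tr X (hm hK) ∧ b' ≫ a' s = ARSys.tr G hK := ha s
    have hnat : ARSys.tr X (hm hsJ) ≫ a' J = a' s ≫ ARSys.tr G hsJ := a.naturality (homOfLE hsJ).op
    have e : (b' ≫ ARSys.tr X (hle s)) ≫ ARSys.tr X hs ≫ a' J = ARSys.tr G (hsJ.trans hK) := by
      rw [Category.assoc, ← Category.assoc (ARSys.tr X (hle s)), ← Functor.map_comp]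
      change b' ≫ ARSys.tr X (hm hsJ) ≫ a' J = _
      rw [hnat, reassoc_of% h2, ← Functor.map_comp]
      rfl
    rw [ModuleCat.epi_iff_surjective]
    intro y
    obtain ⟨x, hx⟩ := hG.surj (hsJ.trans hK) y
    exact ⟨(b' ≫ ARSys.tr X (hle s)).hom x, by rw [← hx, ← e]; rfl⟩
  · rw [Category.assoc, reassoc_of% h1, ← Functor.map_comp, ← Functor.map_comp]
    rfl

theorem isML_of_pro (hG : IsQuotTower I G) {m : ℕ → ℕ} (hm : Monotone m) (hle : ∀ n, n ≤ m n)
    (a : DerCA.reindex X hm ⟶ G) (ha : DerCA.IsProIso a) : ARSys.IsML X := by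
  intro n
  obtain ⟨J, hJ, c, hc⟩ := isQuotTower_pro_stable hG hm hle a ha n
  have key : ∀ s, m J ≤ s → imageSubobject (ARSys.shiftMap X s n) = imageSubobject c := fun s hs => by
    obtain ⟨e, h, he, heq⟩ := hc (n + s) (hs.trans (Nat.le_add_left s n))
    change imageSubobject (ARSys.tr X (Nat.le_add_right n s)) = _
    rw [show ARSys.tr X (Nat.le_add_right n s) = e ≫ c from heq]
    haveI := he
    haveI : IsIso (Subobject.ofLE _ _ (imageSubobject_comp_le e c)) := isIso_of_mono_of_epi _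
    exact Subobject.eq_of_comm (asIso (Subobject.ofLE _ _ (imageSubobject_comp_le e c))) (by simp)
  exact ⟨m J, fun s hs => (key s hs).trans (key _ le_rfl).symm⟩

theorem ker_π_le_of_pro (hG : IsQuotTower I G) (hI : I.FG) {m : ℕ → ℕ} (hm : Monotone m) (hle : ∀ n, n ≤ m n)
    (a : DerCA.reindex X hm ⟶ G) (ha : DerCA.IsProIso a) (k : ℕ) :
    ∃ n, LinearMap.ker (limit.π X (op n)).hom ≤ I ^ k • (⊤ : Submodule A ↑(limit X)) := by
  let a' : ∀ n, X.obj (op (m n)) ⟶ G.obj (op n) := fun n => a.app (op n)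
  have hb : ∀ n, ∃ (J : ℕ) (hJ : n ≤ J) (b : G.obj (op J) ⟶ X.obj (op (m n))),
      a' J ≫ b = ARSys.tr X (hm hJ) ∧ b ≫ a' n = ARSys.tr G hJ := ha
  choose J hJ b h1 h2 using hb
  have hnat : ∀ {p q : ℕ} (h : p ≤ q), ARSys.tr X (hm h) ≫ a' p = a' q ≫ ARSys.tr G h :=
    fun h => a.naturality (homOfLE h).op
  let c : Cone G :=
    { pt := limit X
      π :=
        { app := fun n => limit.π X (op (m n.unop)) ≫ a' n.unop
          naturality := fun i j f => by
            change 𝟙 _ ≫ limit.π X (op (m j.unop)) ≫ a' j.unop =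
              (limit.π X (op (m i.unop)) ≫ a' i.unop) ≫ ARSys.tr G (leOfHom f.unop)
            rw [Category.id_comp, Category.assoc, ← hnat, ← Category.assoc, limit.w] } }
  let φ : ↑(limit X) →ₗ[A] ↑(limit G) := (limit.lift G c).hom
  have hφ : ∀ n z, (limit.π G (op n)).hom (φ z) = (a' n).hom ((limit.π X (op (m n))).hom z) := fun n z => by
    show (limit.lift G c ≫ limit.π G (op n)).hom z = _
    rw [limit.lift_π]
    rfl
  have hinj : Function.Injective φ := by
    intro z z' e
    refine limit_ext _ _ fun n => ?_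
    have key : ∀ z, (limit.π X (op n)).hom z =
        (ARSys.tr X (hle n)).hom ((b n).hom ((limit.π G (op (J n))).hom (φ z))) := fun z => by
      rw [hφ, ← LinearMap.comp_apply (b n).hom, ← ModuleCat.hom_comp, h1, limit_π_tr, limit_π_tr]
    rw [key z, key z', e]
  have hsurj : Function.Surjective φ := by
    intro y
    let v : ∀ n, X.obj (op (m n)) := fun n => (b n).hom ((limit.π G (op (J n))).hom y)
    have hv : ∀ {n q : ℕ} (hq : J n ≤ q), (ARSys.tr X (hm ((hJ n).trans hq))).hom (v q) = v n := by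
      intro n q hq
      show _ = (b n).hom ((limit.π G (op (J n))).hom y)
      rw [← limit_π_tr (hq.trans (hJ q)) y, ← tr_tr hq (hJ q),
        ← LinearMap.comp_apply (ARSys.tr G hq).hom, ← h2 q]
      show _ = (b n).hom ((ARSys.tr G hq).hom ((a' q).hom (v q)))
      rw [← LinearMap.comp_apply (ARSys.tr G hq).hom, ← ModuleCat.hom_comp, ← hnat hq]
      show _ = (a' (J n) ≫ b n).hom ((ARSys.tr X (hm hq)).hom (v q))
      rw [h1, tr_tr]
    obtain ⟨z, hz⟩ := exists_limit_elem (fun n => (ARSys.tr X (hle n)).hom (v n)) fun n => by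
      show (ARSys.tr X _).hom ((ARSys.tr X _).hom (v (n + 1))) = (ARSys.tr X _).hom (v n)
      have hq1 : J n ≤ max (J n) (J (n + 1)) := le_max_left _ _
      have hq2 : J (n + 1) ≤ max (J n) (J (n + 1)) := le_max_right _ _
      rw [← hv hq1, ← hv hq2, tr_tr, tr_tr, tr_tr]
    refine ⟨z, limit_ext _ _ fun n => ?_⟩
    rw [hφ, hz (m n)]
    have hq1 : J (m n) ≤ max (J (m n)) (J n) := le_max_left _ _
    have hq2 : J n ≤ max (J (m n)) (J n) := le_max_right _ _
    rw [← hv hq1, tr_tr, ← tr_tr (hm (hJ n)) (hm hq2) (v _),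
      ← LinearMap.comp_apply (a' n).hom, ← ModuleCat.hom_comp, hnat]
    show (ARSys.tr G (hJ n)).hom ((a' (J n)).hom ((ARSys.tr X (hm hq2)).hom (v _))) = _
    rw [← LinearMap.comp_apply (a' (J n)).hom, ← ModuleCat.hom_comp, hnat]
    show (ARSys.tr G (hJ n)).hom ((ARSys.tr G hq2).hom ((b _ ≫ a' _).hom ((limit.π G (op (J _))).hom y))) = _
    rw [h2, tr_tr, tr_tr, limit_π_tr]
  let e := LinearEquiv.ofBijective φ ⟨hinj, hsurj⟩
  refine ⟨m k, fun z hz => ?_⟩
  have hz' : φ z ∈ LinearMap.ker (limit.π G (op k)).hom := by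
    rw [LinearMap.mem_ker, hφ, LinearMap.mem_ker.mp hz, map_zero]
  have := Submodule.mem_map_of_mem (f := e.symm.toLinearMap) (hG.ker_π_le hI k hz')
  rw [Submodule.map_smul''] at this
  have h' := Submodule.smul_mono (Ideal.pow_le_pow_right (Nat.le_succ k)) le_top this
  rwa [show e.symm.toLinearMap (φ z) = z from e.symm_apply_apply z] at h'

end Pro

end AlgzCohLib
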