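import Groth.Agent.AlgzCohLib.Basic
import Groth.Agent.AlgzCohLib.Tower
import Groth.Agent.CohGenLib.Localization
import Groth.Agent.FormalLib.ModPow
import Groth.Prelude.Def_Wider

/-!
# Coherent formal modules on an affine scheme and on its opens
-/

set_option autoImplicit false
set_option linter.style.haveILetI false
set_option linter.unusedSectionVars false

universe u

open CategoryTheory CategoryTheory.Limits AlgebraicGeometry Opposite TopologicalSpace

noncomputable section

namespace AlgzCohLib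

/-- `Spec A` over itself through the identity. -/
@[implicit_reducible]
def selfOver (A : Type u) [CommRing A] : (Spec (CommRingCat.of A)).Over (Spec (CommRingCat.of A)) := ⟨𝟙 _⟩

attribute [local instance 10000] selfOver

theorem toGlobal_self {A : Type u} [CommRing A] (r : A) :
    Coh.toGlobal (Spec (CommRingCat.of A) ↘ Spec (CommRingCat.of A)) r = (Scheme.ΓSpecIso (CommRingCat.of A)).inv r := by
  have h : (Spec (CommRingCat.of A) ↘ Spec (CommRingCat.of A)) = 𝟙 _ := rfl
  simp [Coh.toGlobal, h]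
  rfl

section General

variable {A : Type u} [CommRing A] {X : Scheme.{u}} [X.Over (Spec (CommRingCat.of A))] {I : Ideal A}

theorem IsModQuot.comp_iso {J : Ideal A} {M N N' : X.Modules} {p : M ⟶ N} (hp : IsModQuot J p) (e : N ≅ N') :
    IsModQuot J (p ≫ e.hom) := by
  haveI := hp.epi
  refine ⟨fun a ha => by rw [← Category.assoc, hp.killed a ha, zero_comp], epi_comp _ _, fun T g hg => ?_⟩
  obtain ⟨g', rfl⟩ := hp.factor T g hg
  exact ⟨e.inv ≫ g', by rw [Category.assoc, Iso.hom_inv_id_assoc]⟩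

theorem IsModQuot.iso_comp {J : Ideal A} {M M' N : X.Modules} {p : M ⟶ N} (hp : IsModQuot J p) (e : M' ≅ M) :
    IsModQuot J (e.hom ≫ p) := by
  haveI := hp.epi
  refine ⟨fun a ha => by rw [← Category.assoc, ← smulMod_naturality, Category.assoc, hp.killed a ha, comp_zero],
    epi_comp _ _, fun T g hg => ?_⟩
  obtain ⟨g', hg'⟩ := hp.factor T (e.inv ≫ g) fun a ha => by
    rw [← Category.assoc, ← smulMod_naturality, Category.assoc, hg a ha, comp_zero]
  exact ⟨g', by rw [Category.assoc, hg', Iso.hom_inv_id_assoc]⟩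

theorem IsModQuot.isIso_desc {J : Ideal A} {M N : X.Modules} {p : M ⟶ N} (hp : IsModQuot J p) :
    ∃ h : Formal.smulFamily J M ≫ p = 0, IsIso (cokernel.desc _ _ h) := by
  refine ⟨(smulFamily_comp_eq_zero_iff J p).2 hp.killed, ?_⟩
  obtain ⟨s, hs⟩ := hp.factor _ (cokernel.π _)
    ((smulFamily_comp_eq_zero_iff J _).1 (cokernel.condition _))
  haveI := hp.epi
  refine ⟨s, ?_, ?_⟩
  · rw [← cancel_epi (cokernel.π (Formal.smulFamily J M)), cokernel.π_desc_assoc, hs, Category.comp_id]
  · rw [← cancel_epi p, reassoc_of% hs, cokernel.π_desc, Category.comp_id]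

theorem isModQuot_modPowπ (n : ℕ) (M : X.Modules) : IsModQuot (I ^ n) (Formal.modPowπ I n M) :=
  ⟨(smulFamily_comp_eq_zero_iff _ _).1 (cokernel.condition _), inferInstanceAs (Epi (cokernel.π _)),
    fun _ g hg => ⟨cokernel.desc _ g ((smulFamily_comp_eq_zero_iff _ g).2 hg), cokernel.π_desc _ _ _⟩⟩

/-- A system of quotients `M / I^(n+1)` is the completion of `M`. -/
theorem nonempty_completion_iso (M : X.Modules) (G : ℕᵒᵖ ⥤ X.Modules) (ρ : ∀ n, M ⟶ G.obj (op n))
    (hρ : ∀ n, ρ (n + 1) ≫ ARSys.tr G (Nat.le_succ n) = ρ n) (hq : ∀ n, IsModQuot (I ^ (n + 1)) (ρ n)) :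
    Nonempty (Formal.completion I M ≅ G) := by
  let c : ∀ n, Formal.modPow I (n + 1) M ⟶ G.obj (op n) := fun n => cokernel.desc _ (ρ n) (hq n).isIso_desc.1
  have hc : ∀ n, Formal.modPowπ I (n + 1) M ≫ c n = ρ n := fun n => cokernel.π_desc _ _ _
  haveI hiso : ∀ n, IsIso (c n) := fun n => (hq n).isIso_desc.2
  have e : ∀ n, Formal.modPowTrans I (n + 1) M ≫ c n = c (n + 1) ≫ ARSys.tr G (Nat.le_succ n) := fun n => by
    haveI := (isModQuot_modPowπ (I := I) (n + 1 + 1) M).epi
    rw [← cancel_epi (Formal.modPowπ I (n + 1 + 1) M), ← Category.assoc, Formal.modPowπ_trans, hc,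
      ← Category.assoc, hc]
    exact (hρ n).symm
  let α : Formal.completion I M ⟶ G := NatTrans.ofOpSequence c fun n =>
    (congrArg (· ≫ c n) (Functor.ofOpSequence_map_homOfLE_succ _ n)).trans (e n)
  haveI : ∀ i, IsIso (α.app i) := fun i => hiso i.unop
  haveI := NatIso.isIso_of_isIso_app α
  exact ⟨asIso α⟩

theorem isCohFormal_of {G : ℕᵒᵖ ⥤ X.Modules} (hc : ∀ n, Coh.IsCoh (G.obj (op n)))
    (hk : ∀ n, Formal.KilledBy (I ^ (n + 1)) (G.obj (op n)))
    (hq : ∀ n, IsModQuot (I ^ (n + 1)) (ARSys.tr G (Nat.le_succ n))) : Formal.IsCohFormal I G :=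
  ⟨hc, hk, fun n => (hq n).isIso_desc⟩

theorem completion_isCohFormal {M : X.Modules} (hM : Coh.IsCoh M) :
    Formal.IsCohFormal I (Formal.completion I M) := by
  haveI := hM.1
  refine isCohFormal_of (fun n => ?_) (fun n a ha => ?_) fun n => ?_
  · exact QCohLib.isCoh_cokernel _ (QCohLib.isQCoh_sigma _ fun _ => hM.1) hM
  · haveI := (isModQuot_modPowπ (I := I) (n + 1) M).epi
    show Formal.smulMod A (Formal.modPow I (n + 1) M) a = 0
    rw [← cancel_epi (Formal.modPowπ I (n + 1) M), smulMod_naturality, (isModQuot_modPowπ (n + 1) M).killed a ha,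
      comp_zero]
  · have e : ARSys.tr (Formal.completion I M) (Nat.le_succ n) = Formal.modPowTrans I (n + 1) M :=
      Functor.ofOpSequence_map_homOfLE_succ _ n
    have key : IsModQuot (I ^ (n + 1)) (Formal.modPowTrans I (n + 1) M) := by
      haveI := (isModQuot_modPowπ (I := I) (n + 1 + 1) M).epi
      haveI := (isModQuot_modPowπ (I := I) (n + 1) M).epi
      refine ⟨fun a ha => ?_, ?_, fun T g hg => ?_⟩
      · rw [← cancel_epi (Formal.modPowπ I (n + 1 + 1) M), ← Category.assoc, smulMod_naturality, Category.assoc,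
          Formal.modPowπ_trans, (isModQuot_modPowπ (n + 1) M).killed a ha, comp_zero]
      · exact epi_of_epi_fac (Formal.modPowπ_trans I (n + 1) M)
      · obtain ⟨g', hg'⟩ := (isModQuot_modPowπ (I := I) (n + 1) M).factor T (Formal.modPowπ I (n + 1 + 1) M ≫ g)
          fun a ha => by rw [← Category.assoc, ← smulMod_naturality, Category.assoc, hg a ha, comp_zero]
        exact ⟨g', by rw [← cancel_epi (Formal.modPowπ I (n + 1 + 1) M), ← Category.assoc, Formal.modPowπ_trans, hg']⟩
    exact e.symm ▸ key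

end General

section Open

variable {A : Type u} [CommRing A] {I : Ideal A} {U : (Spec (CommRingCat.of A)).Opens}

local notation "R" => Scheme.Modules.restrictFunctor (Scheme.Opens.ι U)

theorem restrict_smulMod (M : (Spec (CommRingCat.of A)).Modules) (a : A) :
    (R).map (Formal.smulMod A M a) = Formal.smulMod A ((R).obj M) a := by
  apply Scheme.Modules.hom_ext
  intro V
  refine ConcreteCategory.hom_ext _ _ fun x => ?_
  change (show Γ(Spec (CommRingCat.of A), U.ι ''ᵁ V) from Coh.resTop (Spec (CommRingCat.of A)) (op (U.ι ''ᵁ V)) (Coh.toGlobal (Spec (CommRingCat.of A) ↘ Spec (CommRingCat.of A)) a)) • (show Γ(M, U.ι ''ᵁ V) from x) = ((U.ι.appIso V).inv (show Γ((U : Scheme.{u}), V) from Coh.resTop (U : Scheme.{u}) (op V) (Coh.toGlobal ((U : Scheme.{u}) ↘ Spec (CommRingCat.of A)) a))) • (show Γ(M, U.ι ''ᵁ V) from x)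
  congr 1
  rw [toGlobal_self]
  have h : Coh.toGlobal ((U : Scheme.{u}) ↘ Spec (CommRingCat.of A)) a = U.ι.appTop ((Scheme.ΓSpecIso (CommRingCat.of A)).inv a) := rfl
  rw [h, Scheme.Opens.ι_appIso, Scheme.Opens.ι_appTop]
  exact ConcreteCategory.congr_hom ((Spec (CommRingCat.of A)).presheaf.map_comp (homOfLE (x := U.ι ''ᵁ ⊤) le_top).op (homOfLE (U.ι.image_mono (le_top : V ≤ ⊤))).op) ((Scheme.ΓSpecIso (CommRingCat.of A)).inv a)

theorem IsModQuot.restrict {J : Ideal A} {M N : (Spec (CommRingCat.of A)).Modules} {p : M ⟶ N}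
    (hp : IsModQuot J p) : IsModQuot J ((R).map p) := by
  haveI := hp.epi
  refine ⟨fun a ha => by rw [← restrict_smulMod, ← Functor.map_comp, hp.killed a ha, Functor.map_zero],
    inferInstance, fun T g hg => ?_⟩
  let adj := Scheme.Modules.restrictAdjunction U.ι
  obtain ⟨g', hg'⟩ := hp.factor _ (adj.homEquiv M T g) fun a ha => by
    rw [← adj.homEquiv_naturality_left, restrict_smulMod, hg a ha, Adjunction.homEquiv_unit, Functor.map_zero,
      comp_zero]
  refine ⟨(adj.homEquiv N T).symm g', ?_⟩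
  rw [← adj.homEquiv_naturality_left_symm, hg', Equiv.symm_apply_apply]

theorem isCohFormal_restrict {G : ℕᵒᵖ ⥤ (Spec (CommRingCat.of A)).Modules} (hG : Formal.IsCohFormal I G) :
    Formal.IsCohFormal I (Algz.restrictSys U G) :=
  isCohFormal_of (fun n => CohGenLib.isCoh_restrict _ (hG.1 n))
    (fun n a ha => by
      show Formal.smulMod A ((R).obj _) a = 0
      rw [← restrict_smulMod, hG.2.1 n a ha, Functor.map_zero])
    fun n => (tr_succ_isModQuot hG n).restrict

theorem nonempty_restrict_completion (M : (Spec (CommRingCat.of A)).Modules) :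
    Nonempty (Formal.completion I ((R).obj M) ≅ Algz.restrictSys U (Formal.completion I M)) :=
  nonempty_completion_iso _ _ (fun n => (R).map (Formal.modPowπ I (n + 1) M))
    (fun n => ((R).map_comp _ _).symm.trans (congrArg (R).map
      ((congrArg (Formal.modPowπ I (n + 1 + 1) M ≫ ·) (Functor.ofOpSequence_map_homOfLE_succ _ n)).trans
        (Formal.modPowπ_trans I (n + 1) M))))
    fun n => (isModQuot_modPowπ (n + 1) M).restrict

theorem nonempty_completion_congr {Y : Scheme.{u}} [Y.Over (Spec (CommRingCat.of A))] {M M' : Y.Modules}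
    (e : M ≅ M') : Nonempty (Formal.completion I M ≅ Formal.completion I M') :=
  nonempty_completion_iso _ _ (fun n => e.hom ≫ Formal.modPowπ I (n + 1) M')
    (fun n => by
      rw [← Formal.modPowπ_trans I (n + 1) M', Category.assoc]
      congr 2
      exact Functor.ofOpSequence_map_homOfLE_succ _ n)
    fun n => (isModQuot_modPowπ (n + 1) M').iso_comp e

theorem extends_of_completion_iso [IsNoetherianRing A] (G : ℕᵒᵖ ⥤ (U : Scheme.{u}).Modules)
    (F : (U : Scheme.{u}).Modules) (hF : Coh.IsCoh F) (e : Formal.completion I F ≅ G) :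
    Algz.Extends I U G := by
  obtain ⟨F', hF', ⟨e'⟩⟩ := CohGenLib.exists_extension U.ι hF
  obtain ⟨e₁⟩ := nonempty_restrict_completion (I := I) (U := U) F'
  obtain ⟨e₂⟩ := nonempty_completion_congr (I := I) e'
  exact ⟨_, completion_isCohFormal hF', ⟨e₁.symm ≪≫ e₂ ≪≫ e⟩⟩

end Open

section Affine

variable {A : Type u} [CommRing A] {I : Ideal A}

local notation "S" => Spec (CommRingCat.of A)
/-- Global sections, with values in `A`-modules. -/
def ΓA (A : Type u) [CommRing A] : (Spec (CommRingCat.of A)).Modules ⥤ ModuleCat.{u} A :=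
  moduleSpecΓFunctor (R := CommRingCat.of A)

/-- The tilde construction on `A`-modules. -/
def TA (A : Type u) [CommRing A] : ModuleCat.{u} A ⥤ (Spec (CommRingCat.of A)).Modules :=
  tilde.functor (CommRingCat.of A)

/-- Tilde is left adjoint to global sections. -/
def adjA (A : Type u) [CommRing A] : TA A ⊣ ΓA A := tilde.adjunction (R := CommRingCat.of A)

instance : (TA A).IsLeftAdjoint := (adjA A).isLeftAdjoint
instance : (ΓA A).IsRightAdjoint := (adjA A).isRightAdjoint
instance : (TA A).PreservesZeroMorphisms := Functor.preservesZeroMorphisms_of_isLeftAdjoint _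
instance : (ΓA A).PreservesZeroMorphisms := Functor.preservesZeroMorphisms_of_isRightAdjoint _
instance : IsIso (adjA A).unit := (inferInstance : IsIso (tilde.toTildeΓNatIso (R := CommRingCat.of A)).hom)

local notation "Γf" => ΓA A
local notation "T" => TA A

theorem Γ_smulMod_apply (M : (Spec (CommRingCat.of A)).Modules) (a : A) (x : (Γf).obj M) :
    ((Γf).map (Formal.smulMod A M a)).hom x = a • x := by
  change (show Γ(Spec (CommRingCat.of A), ⊤) from Coh.resTop (Spec (CommRingCat.of A)) (op ⊤) (Coh.toGlobal (Spec (CommRingCat.of A) ↘ Spec (CommRingCat.of A)) a)) • (show Γ(M, ⊤) from x) = ((Scheme.ΓSpecIso (CommRingCat.of A)).inv a : Γ(Spec (CommRingCat.of A), ⊤)) • (show Γ(M, ⊤) from x)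
  congr 1

theorem tilde_map_smul (N : ModuleCat.{u} A) (a : A) :
    (T).map (a • 𝟙 N) = Formal.smulMod A ((T).obj N) a := by
  apply ((adjA A).homEquiv N ((T).obj N)).injective
  rw [Adjunction.homEquiv_unit, Adjunction.homEquiv_unit]
  refine ((adjA A).unit.naturality (a • 𝟙 N)).symm.trans ?_
  refine ModuleCat.hom_ext (LinearMap.ext fun x => ?_)
  show ((adjA A).unit.app N).hom (a • x) =
    ((Γf).map (Formal.smulMod A _ a)).hom (((adjA A).unit.app N).hom x)
  rw [map_smul, Γ_smulMod_apply]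

theorem map_eq_zero_of_killed {N : ModuleCat.{u} A} {a : A} (h : ∀ x : N, a • x = 0) :
    Formal.smulMod A ((T).obj N) a = 0 := by
  rw [← tilde_map_smul, show a • 𝟙 N = 0 from ModuleCat.hom_ext (LinearMap.ext fun x => h x), Functor.map_zero]

theorem isIso_counit (M : (Spec (CommRingCat.of A)).Modules) [Coh.IsQCoh M] : IsIso ((adjA A).counit.app M) :=
  Scheme.Modules.isIso_fromTildeΓ_of_isQuasicoherent (R := CommRingCat.of A) M

theorem ker_homEquiv_le {J : Ideal A} {M M' : (Spec (CommRingCat.of A)).Modules} {p : M ⟶ M'}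
    (hp : IsModQuot J p) (N : ModuleCat.{u} A) (u : (T).obj N ≅ M) :
    LinearMap.ker ((adjA A).homEquiv N M' (u.hom ≫ p)).hom ≤ J • ⊤ := by
  intro x hx
  let q : N ⟶ ModuleCat.of A (N ⧸ (J • ⊤ : Submodule A N)) := ModuleCat.ofHom (Submodule.mkQ _)
  obtain ⟨g', hg'⟩ := hp.factor _ (u.inv ≫ (T).map q) fun a ha => by
    refine smulMod_comp_eq_zero (J := J) (fun b hb => map_eq_zero_of_killed fun y => ?_) _ ha
    obtain ⟨y, rfl⟩ := Submodule.Quotient.mk_surjective _ y
    rw [← Submodule.Quotient.mk_smul, Submodule.Quotient.mk_eq_zero]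
    exact Submodule.smul_mem_smul hb trivial
  have e : q ≫ (adjA A).unit.app (ModuleCat.of A (N ⧸ (J • ⊤ : Submodule A N))) =
      (adjA A).homEquiv N M' (u.hom ≫ p) ≫ (Γf).map g' := by
    rw [← Adjunction.homEquiv_naturality_right, Category.assoc, hg', Iso.hom_inv_id_assoc, Adjunction.homEquiv_unit]
    exact (adjA A).unit.naturality q
  have h0 := LinearMap.congr_fun (congrArg ModuleCat.Hom.hom e) x
  rw [ModuleCat.hom_comp, ModuleCat.hom_comp, LinearMap.comp_apply, LinearMap.comp_apply,
    LinearMap.mem_ker.mp hx, map_zero] at h0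
  have hinj : Function.Injective ((adjA A).unit.app (ModuleCat.of A (N ⧸ (J • ⊤ : Submodule A N)))).hom :=
    (ConcreteCategory.bijective_of_isIso ((adjA A).unit.app (ModuleCat.of A (N ⧸ (J • ⊤ : Submodule A N))))).1
  exact (Submodule.Quotient.mk_eq_zero _).mp (hinj (h0.trans (map_zero _).symm))

theorem ker_Γ_map_le {J : Ideal A} {M M' : (Spec (CommRingCat.of A)).Modules} [Coh.IsQCoh M] {p : M ⟶ M'}
    (hp : IsModQuot J p) : LinearMap.ker ((Γf).map p).hom ≤ J • ⊤ := by
  haveI := isIso_counit M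
  have := ker_homEquiv_le hp ((Γf).obj M) (asIso ((adjA A).counit.app M))
  rwa [show (adjA A).homEquiv ((Γf).obj M) M' ((asIso ((adjA A).counit.app M)).hom ≫ p) = (Γf).map p from
    (Equiv.eq_symm_apply _).mp (by rw [Adjunction.homEquiv_counit]; exact ((adjA A).counit.naturality p).symm)] at this

/-- Sections of an object of `Coh(Spec A, I)`. -/
theorem isQuotTower_Γ {G : ℕᵒᵖ ⥤ (Spec (CommRingCat.of A)).Modules} (hG : Formal.IsCohFormal I G) :
    IsQuotTower I (G ⋙ Γf) := by
  constructor
  · intro n N h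
    haveI := (tr_isModQuot hG h).epi
    haveI := (hG.1 N).1
    haveI := (hG.1 n).1
    exact FormalLib.app_surjective_of_epi (G.obj (op N)) (ARSys.tr G h) (isAffineOpen_top _)
  · intro n N h
    refine le_antisymm (fun x hx => ?_) (Submodule.smul_le.mpr fun a ha x _ => ?_)
    · haveI := (hG.1 N).1
      exact ker_Γ_map_le (tr_isModQuot hG h) hx
    · rw [LinearMap.mem_ker]
      show ((Γf).map (ARSys.tr G h)).hom (a • x) = 0
      rw [map_smul, ← Γ_smulMod_apply, hG.2.1 n a ha, Functor.map_zero]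
      rfl

theorem exists_factor {N N' L : ModuleCat.{u} A} (p : N ⟶ N') (hs : Function.Surjective p.hom) (φ : N ⟶ L)
    (h : LinearMap.ker p.hom ≤ LinearMap.ker φ.hom) : ∃ ψ : N' ⟶ L, p ≫ ψ = φ := by
  refine ⟨ModuleCat.ofHom ((Submodule.liftQ _ φ.hom h) ∘ₗ (p.hom.quotKerEquivOfSurjective hs).symm.toLinearMap), ?_⟩
  refine ModuleCat.hom_ext (LinearMap.ext fun x => ?_)
  show Submodule.liftQ _ _ h ((p.hom.quotKerEquivOfSurjective hs).symm (p.hom x)) = _
  rw [show (p.hom.quotKerEquivOfSurjective hs).symm (p.hom x) = Submodule.Quotient.mk x from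
    (LinearEquiv.symm_apply_eq _).mpr rfl]
  rfl

/-- The module quotient `N → N'` gives a quotient of sheaves. -/
theorem isModQuot_tilde {J : Ideal A} {N N' : ModuleCat.{u} A} (p : N ⟶ N') (hs : Function.Surjective p.hom)
    (hk : LinearMap.ker p.hom = J • ⊤) : IsModQuot J ((T).map p) := by
  haveI : Epi p := (ModuleCat.epi_iff_surjective p).mpr hs
  refine ⟨fun a ha => ?_, inferInstance, fun W g hg => ?_⟩
  · rw [← tilde_map_smul, ← Functor.map_comp]
    refine (congrArg (T).map (ModuleCat.hom_ext (LinearMap.ext fun x => ?_) : _ = (0 : N ⟶ N'))).trans ((T).map_zero _ _)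
    show p.hom (a • x) = 0
    exact LinearMap.mem_ker.mp (hk ▸ Submodule.smul_mem_smul ha trivial)
  · let adj := adjA A
    have hle : LinearMap.ker p.hom ≤ LinearMap.ker (adj.homEquiv N W g).hom := by
      rw [hk, Submodule.smul_le]
      intro a ha x _
      rw [LinearMap.mem_ker]
      have h2 := congrArg (adj.homEquiv N W) (hg a ha)
      rw [← tilde_map_smul, adj.homEquiv_naturality_left, Adjunction.homEquiv_unit (f := (0 : (T).obj N ⟶ W)),
        Functor.map_zero, comp_zero] at h2
      exact LinearMap.congr_fun (congrArg ModuleCat.Hom.hom h2) x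
    obtain ⟨ψ, hψ⟩ := exists_factor p hs (adj.homEquiv N W g) hle
    refine ⟨(adj.homEquiv N' W).symm ψ, ?_⟩
    rw [← adj.homEquiv_naturality_left_symm, Equiv.symm_apply_eq, hψ]

end Affine

end AlgzCohLib
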