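import Groth.Agent.AlgzCohLib.Geometry
import Groth.Agent.QCohLib.Push

/-!
# Canonical extensions of coherent formal modules from an open of an affine scheme
-/

set_option autoImplicit false
set_option linter.style.haveILetI false
set_option linter.unusedSectionVars false

universe u v v' w

open CategoryTheory CategoryTheory.Limits AlgebraicGeometry Opposite TopologicalSpace

noncomputable section

namespace AlgzCohLib

attribute [local instance 10000] selfOver

theorem isProIsomorphic_map {C : Type w} [Category.{v} C] {D : Type w} [Category.{v'} D] (F : C ⥤ D)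
    {X Y : ARSys.PS C} (h : Algz.IsProIsomorphic X Y) : Algz.IsProIsomorphic (X ⋙ F) (Y ⋙ F) := by
  obtain ⟨m, hm, hle, a, ha⟩ := h
  refine ⟨m, hm, hle, Functor.whiskerRight a F, fun n => ?_⟩
  obtain ⟨J, hJ, b, h1, h2⟩ := ha n
  exact ⟨J, hJ, F.map b, (F.map_comp _ _).symm.trans (congrArg F.map h1),
    (F.map_comp _ _).symm.trans (congrArg F.map h2)⟩

theorem isProIsomorphic_congr {C : Type w} [Category.{v} C] {X X' Y : ARSys.PS C} (e : X' ≅ X)
    (h : Algz.IsProIsomorphic X Y) : Algz.IsProIsomorphic X' Y := by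
  obtain ⟨m, hm, hle, a, ha⟩ := h
  refine ⟨m, hm, hle, Functor.whiskerLeft _ e.hom ≫ a, fun n => ?_⟩
  obtain ⟨J, hJ, b, h1, h2⟩ := ha n
  let a' : ∀ n, X.obj (op (m n)) ⟶ Y.obj (op n) := fun n => a.app (op n)
  let b' : Y.obj (op J) ⟶ X.obj (op (m n)) := b
  refine ⟨J, hJ, b' ≫ e.inv.app (op (m n)), ?_, ?_⟩
  · show (e.hom.app (op (m J)) ≫ a' J) ≫ b' ≫ e.inv.app (op (m n)) = X'.map (homOfLE (hm hJ)).op
    rw [Category.assoc, ← Category.assoc (a' J), show a' J ≫ b' = X.map (homOfLE (hm hJ)).op from h1,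
      e.inv.naturality, Iso.hom_inv_id_app_assoc]
  · show (b' ≫ e.inv.app (op (m n))) ≫ e.hom.app (op (m n)) ≫ a' n = _
    rw [Category.assoc, Iso.inv_hom_id_app_assoc]
    exact h2

variable {A : Type u} [CommRing A] [IsNoetherianRing A] {I : Ideal A} {U : (Spec (CommRingCat.of A)).Opens}

/-- The sheaves attached to the sections restrict to the given system. -/
theorem nonempty_restrict_sectSys {G : ℕᵒᵖ ⥤ (U : Scheme.{u}).Modules} (hG : Formal.IsCohFormal I G) :
    Nonempty (Algz.restrictSys U (Algz.sectSys A U G) ≅ G) := by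
  let push := Scheme.Modules.pushforward U.ι
  haveI : ∀ i, IsIso ((adjA A).counit.app (push.obj (G.obj i))) := fun i => by
    haveI := (hG.1 i.unop).1
    haveI : Coh.IsQCoh (push.obj (G.obj i)) := QCohLib.isQCoh_pushforward U.ι (G.obj i)
    exact isIso_counit _
  let α : Algz.sectSys A U G ⟶ G ⋙ push :=
    { app := fun i => (adjA A).counit.app (push.obj (G.obj i))
      naturality := fun i j f => (adjA A).counit.naturality (push.map (G.map f)) }
  haveI : ∀ i, IsIso (α.app i) := fun i => inferInstanceAs (IsIso ((adjA A).counit.app (push.obj (G.obj i))))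
  haveI := NatIso.isIso_of_isIso_app α
  exact ⟨Functor.isoWhiskerRight (asIso α) _ ≪≫ Functor.associator _ _ _ ≪≫
    Functor.isoWhiskerLeft G (Scheme.Modules.restrictFunctorAdjCounitIso U.ι) ≪≫ G.rightUnitor⟩

theorem extends_of_canonicallyExtends {G : ℕᵒᵖ ⥤ (U : Scheme.{u}).Modules} (hG : Formal.IsCohFormal I G)
    (h : Algz.CanonicallyExtends A I U G) : Algz.Extends I U G := by
  obtain ⟨G', hG', hpro⟩ := h
  obtain ⟨e⟩ := nonempty_restrict_sectSys hG
  obtain ⟨e'⟩ := nonempty_iso hG (isCohFormal_restrict hG')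
    (isProIsomorphic_congr e.symm (isProIsomorphic_map (Scheme.Modules.restrictFunctor U.ι) hpro))
  exact ⟨G', hG', ⟨e'.symm⟩⟩

omit [IsNoetherianRing A] in
/-- The sections are pro-isomorphic to a tower of quotients. -/
theorem exists_tower {G : ℕᵒᵖ ⥤ (U : Scheme.{u}).Modules} (h : Algz.CanonicallyExtends A I U G) :
    ∃ (M : Sys A), IsQuotTower I M ∧ Algz.IsProIsomorphic (Algz.sectMod A U G) M := by
  obtain ⟨G', hG', hpro⟩ := h
  refine ⟨G' ⋙ ΓA A, isQuotTower_Γ hG', ?_⟩
  exact isProIsomorphic_congr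
    ((Functor.rightUnitor _).symm ≪≫ Functor.isoWhiskerLeft (Algz.sectMod A U G) (asIso (adjA A).unit) ≪≫
      (Functor.associator _ _ _).symm)
    (isProIsomorphic_map (ΓA A) hpro)

theorem isML_sectMod {G : ℕᵒᵖ ⥤ (U : Scheme.{u}).Modules} (h : Algz.CanonicallyExtends A I U G) :
    ARSys.IsML (Algz.sectMod A U G) := by
  obtain ⟨M, hM, m, hm, hle, a, ha⟩ := exists_tower h
  exact isML_of_pro hM hm hle a ha

theorem ker_limit_sectMod_le {G : ℕᵒᵖ ⥤ (U : Scheme.{u}).Modules} (h : Algz.CanonicallyExtends A I U G) (k : ℕ) :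
    ∃ n : ℕ, LinearMap.ker (limit.π (Algz.sectMod A U G) (op n)).hom ≤
      I ^ k • (⊤ : Submodule A ↑(limit (Algz.sectMod A U G))) := by
  obtain ⟨M, hM, m, hm, hle, a, ha⟩ := exists_tower h
  exact ker_π_le_of_pro hM (IsNoetherian.noetherian I) hm hle a ha k

end AlgzCohLib
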