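import Groth.Agent.S17860
import Groth.Agent.KFlatLib.AffinePull
import Groth.Agent.KFlatLib.PerfectPull
import Groth.Agent.MiscFlat6.TildeFin
import Groth.Prelude.Def_FlatMod2
import Groth.Prelude.Def_W4c5algebraiztannakaNis

/-!
# Generators from sections over a stratification
-/

set_option autoImplicit false
set_option linter.all false

universe u

open CategoryTheory CategoryTheory.Limits AlgebraicGeometry TopologicalSpace Opposite TensorProduct

namespace AlgzCohLib

/-- The kernel of a base change along a surjection. -/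
theorem ker_baseChange {R : Type u} [CommRing R] {S : Type u} [CommRing S] [Algebra R S]
    (hS : Function.Surjective (algebraMap R S)) {M : Type u} [AddCommGroup M] [Module R M]
    {N : Type u} [AddCommGroup N] [Module R N] [Module S N] [IsScalarTower R S N] {θ : M →ₗ[R] N}
    (h : IsBaseChange S θ) {x : M} (hx : θ x = 0) :
    x ∈ RingHom.ker (algebraMap R S) • (⊤ : Submodule R M) := by
  let I := RingHom.ker (algebraMap R S)
  let e : (R ⧸ I) ≃ₐ[R] S := Ideal.quotientKerAlgEquivOfSurjective (f := Algebra.ofId R S) hS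
  have h1 : (1 : S) ⊗ₜ[R] x = 0 := h.equiv.injective (by rw [h.equiv_tmul, map_zero, hx, smul_zero])
  have h2 : (1 : R ⧸ I) ⊗ₜ[R] x = 0 := by
    have h3 := congrArg (LinearMap.rTensor M e.symm.toLinearMap) h1
    rw [map_zero, LinearMap.rTensor_tmul] at h3
    simpa using h3
  have h3 := congrArg (TensorProduct.quotTensorEquivQuotSMul M I) h2
  rw [map_zero] at h3
  have h4 : Submodule.Quotient.mk x = (0 : M ⧸ I • (⊤ : Submodule R M)) := by
    rw [show (1 : R ⧸ I) = Ideal.Quotient.mk I 1 from (map_one _).symm,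
      TensorProduct.quotTensorEquivQuotSMul_mk_tmul, one_smul] at h3
    exact h3
  exact (Submodule.Quotient.mk_eq_zero _).mp h4

section
variable {U T : Scheme.{u}}

/-- Global sections of the pullback of a free module to an affine scheme. -/
theorem exists_gens_of_epi {U T : Scheme.{u}} [IsAffine T] (s : T ⟶ U) {P : U.Modules} [Coh.IsQCoh P] {N : ℕ}
    (φ : FlatMod.freeMod U N ⟶ P) [Epi φ] :
    ∃ e : Fin N → Γ((Scheme.Modules.pullback s).obj P, (⊤ : T.Opens)),
      Submodule.span Γ(T, ⊤) (Set.range e) = ⊤ := by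
  classical
  let L := fun _ : Fin N => Coh.structureModule U
  let F := Scheme.Modules.pullback s
  haveI : Coh.IsQCoh (F.obj P) := KFlatLib.isQCoh_pullback s P
  haveI : Coh.IsQCoh (FlatMod.freeMod U N) :=
    QCohLib.isQCoh_of_isColimit (fun _ => inferInstance) (fun _ => QCohLib.isQCoh_unit)
      (colimit.isColimit _)
  haveI : Coh.IsQCoh (F.obj (FlatMod.freeMod U N)) := KFlatLib.isQCoh_pullback s _
  haveI : F.IsLeftAdjoint := ⟨_, ⟨Scheme.Modules.pullbackPushforwardAdjunction s⟩⟩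
  haveI : Epi (F.map φ) := inferInstance
  let i := KFlatLib.pullUnitIso s
  let one : Γ(F.obj (Coh.structureModule U), (⊤ : T.Opens)) := i.inv.app ⊤ (1 : Γ(T, ⊤))
  have hone : ∀ x : Γ(F.obj (Coh.structureModule U), (⊤ : T.Opens)), ∃ c : Γ(T, ⊤), x = c • one := fun x => by
    refine ⟨i.hom.app ⊤ x, ?_⟩
    let r : Γ(T, ⊤) := i.hom.app ⊤ x
    refine Eq.trans ?_ (QCohLib.app_smul i.inv ⊤ r (1 : Γ(T, ⊤)))
    refine Eq.trans ?_ (congrArg (i.inv.app ⊤) (mul_one r).symm)
    exact (congrArg (fun f : _ ⟶ _ => Scheme.Modules.Hom.app f ⊤ x) i.hom_inv_id).symm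
  let π : ∀ j, FlatMod.freeMod U N ⟶ Coh.structureModule U := fun j =>
    Sigma.desc fun k => if k = j then 𝟙 _ else 0
  have hid : ∑ j, π j ≫ Sigma.ι L j = 𝟙 (∐ L) := by
    refine Sigma.hom_ext _ _ fun k => ?_
    rw [Preadditive.comp_sum, Finset.sum_eq_single k]
    · simp [π]; rfl
    · intro j _ hj
      rw [Sigma.ι_desc_assoc, if_neg hj.symm, zero_comp]
    · simp
  refine ⟨fun j => (F.map (Sigma.ι L j ≫ φ)).app ⊤ one, eq_top_iff.mpr fun y _ => ?_⟩
  obtain ⟨z, rfl⟩ := Groth.Agent.S17860.app_surjective (F.map φ) (isAffineOpen_top T) y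
  have hF : F.map φ = ∑ j, F.map (π j) ≫ F.map (Sigma.ι L j ≫ φ) := by
    conv_lhs => rw [← Category.id_comp φ, ← hid, Preadditive.sum_comp, F.map_sum]
    simp only [Category.assoc, Functor.map_comp]
  let ev : (F.obj (FlatMod.freeMod U N) ⟶ F.obj P) →+ Γ(F.obj P, (⊤ : T.Opens)) :=
    AddMonoidHom.mk' (fun f => f.app ⊤ z) fun f g => rfl
  have hz : (F.map φ).app ⊤ z = ∑ j, ev (F.map (π j) ≫ F.map (Sigma.ι L j ≫ φ)) :=
    (congrArg ev hF).trans (map_sum ev _ _)
  rw [hz]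
  refine Submodule.sum_mem _ fun j _ => ?_
  change (F.map (Sigma.ι L j ≫ φ)).app ⊤ ((F.map (π j)).app ⊤ z) ∈ _
  obtain ⟨c, hc⟩ := hone ((F.map (π j)).app ⊤ z)
  rw [hc, QCohLib.app_smul]
  exact Submodule.smul_mem _ _ (Submodule.subset_span ⟨j, rfl⟩)

end

/-- Generators modulo `J` from a lift of `Spec (R ⧸ J)` to `U`. -/
theorem gens_mod {R : CommRingCat.{u}} (M : ModuleCat.{u} R) {U : Scheme.{u}} (f : U ⟶ Spec R)
    {N : ℕ} (φ : FlatMod.freeMod U N ⟶ (Scheme.Modules.pullback f).obj (tilde M)) [Epi φ]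
    (J : Ideal R) (s : Spec (CommRingCat.of (R ⧸ J)) ⟶ U)
    (hs : s ≫ f = Spec.map (CommRingCat.ofHom (Ideal.Quotient.mk J))) :
    ∃ t : Fin N → M, Submodule.span R (Set.range t) ⊔ J • (⊤ : Submodule R M) = ⊤ := by
  classical
  let Q : CommRingCat.{u} := CommRingCat.of (R ⧸ J)
  let q : R ⟶ Q := CommRingCat.ofHom (Ideal.Quotient.mk J)
  let g : Spec Q ⟶ Spec R := Spec.map q
  haveI : Coh.IsQCoh (tilde M) := MiscFlat6.isQCoh_tilde M
  haveI : Coh.IsQCoh ((Scheme.Modules.pullback f).obj (tilde M)) := KFlatLib.isQCoh_pullback f _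
  obtain ⟨e₀, he₀⟩ := exists_gens_of_epi s φ
  let c : (Scheme.Modules.pullback s).obj ((Scheme.Modules.pullback f).obj (tilde M)) ≅
      KFlatLib.pb g (tilde M) :=
    (Scheme.Modules.pullbackComp s f).app (tilde M) ≪≫ (Scheme.Modules.pullbackCongr hs).app (tilde M)
  let e : Fin N → Γ(KFlatLib.pb g (tilde M), (⊤ : (Spec Q).Opens)) := fun j => c.hom.app ⊤ (e₀ j)
  have hle : (⊤ : (Spec Q).Opens) ≤ g ⁻¹ᵁ ⊤ := le_top
  let a : R →+* Γ(Spec Q, ⊤) := (g.appLE ⊤ ⊤ hle).hom.comp (Scheme.ΓSpecIso R).inv.hom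
  have ha : a = (Scheme.ΓSpecIso Q).inv.hom.comp (Ideal.Quotient.mk J) := by
    have h := Scheme.ΓSpecIso_inv_naturality q
    have h' := congrArg CommRingCat.Hom.hom h
    refine Eq.trans ?_ h'.symm
    change _ = ((Scheme.ΓSpecIso R).inv ≫ (Spec.map q).appTop).hom
    rw [Scheme.Hom.appTop, ← Scheme.Hom.appLE_eq_app]
    rfl
  have hbij : Function.Bijective (Scheme.ΓSpecIso Q).inv.hom :=
    ConcreteCategory.bijective_of_isIso (Scheme.ΓSpecIso Q).inv
  letI : Algebra R Γ(Spec Q, ⊤) := a.toAlgebra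
  have hsurj : Function.Surjective (algebraMap R Γ(Spec Q, ⊤)) := by
    change Function.Surjective a
    rw [ha]
    exact hbij.2.comp Ideal.Quotient.mk_surjective
  have hker : RingHom.ker (algebraMap R Γ(Spec Q, ⊤)) ≤ J := fun r hr => by
    have hr' : a r = 0 := hr
    rw [ha, RingHom.comp_apply, map_eq_zero_iff _ hbij.1] at hr'
    exact Ideal.Quotient.eq_zero_iff_mem.mp hr'
  letI : Algebra R Γ(Spec R, ⊤) := (Scheme.ΓSpecIso R).inv.hom.toAlgebra
  letI : Algebra Γ(Spec R, ⊤) Γ(Spec Q, ⊤) := (g.appLE ⊤ ⊤ hle).hom.toAlgebra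
  haveI : IsScalarTower R Γ(Spec R, ⊤) Γ(Spec Q, ⊤) := IsScalarTower.of_algebraMap_eq fun _ => rfl
  letI : Module R Γ(KFlatLib.pb g (tilde M), (⊤ : (Spec Q).Opens)) := Module.compHom _ a
  letI : Module Γ(Spec R, ⊤) Γ(KFlatLib.pb g (tilde M), (⊤ : (Spec Q).Opens)) :=
    Module.compHom _ (g.appLE ⊤ ⊤ hle).hom
  haveI : IsScalarTower R Γ(Spec Q, ⊤) Γ(KFlatLib.pb g (tilde M), (⊤ : (Spec Q).Opens)) :=
    IsScalarTower.of_algebraMap_smul fun _ _ => rfl
  haveI : IsScalarTower Γ(Spec R, ⊤) Γ(Spec Q, ⊤) Γ(KFlatLib.pb g (tilde M), (⊤ : (Spec Q).Opens)) :=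
    IsScalarTower.of_algebraMap_smul fun _ _ => rfl
  haveI : IsScalarTower R Γ(Spec R, ⊤) Γ(KFlatLib.pb g (tilde M), (⊤ : (Spec Q).Opens)) :=
    IsScalarTower.of_algebraMap_smul fun _ _ => rfl
  letI : Module R Γ(tilde M, (⊤ : (Spec R).Opens)) := Module.compHom _ (Scheme.ΓSpecIso R).inv.hom
  haveI : IsScalarTower R Γ(Spec R, ⊤) Γ(tilde M, (⊤ : (Spec R).Opens)) :=
    IsScalarTower.of_algebraMap_smul fun _ _ => rfl
  let ψ : Γ(tilde M, (⊤ : (Spec R).Opens)) →ₗ[Γ(Spec R, ⊤)] Γ(KFlatLib.pb g (tilde M), (⊤ : (Spec Q).Opens)) :=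
    { toFun := KFlatLib.puSecLE g (tilde M) hle
      map_add' := fun x y => map_add (KFlatLib.puSecLE g (tilde M) hle) x y
      map_smul' := fun r x => KFlatLib.puSecLE_smul g (tilde M) hle r x }
  have hb : IsBaseChange Γ(Spec Q, ⊤) ψ := KFlatLib.isBaseChange_puSec g (tilde M) (isAffineOpen_top _)
    (isAffineOpen_top _) hle (fun _ => rfl) ψ (fun _ => rfl)
  let τ : M →ₗ[R] Γ(tilde M, (⊤ : (Spec R).Opens)) :=
    { toFun := MiscFlat6.topEquiv M
      map_add' := map_add (MiscFlat6.topEquiv M)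
      map_smul' := MiscFlat6.topEquiv_smul M }
  let eτ : M ≃ₗ[R] Γ(tilde M, (⊤ : (Spec R).Opens)) :=
    LinearEquiv.ofBijective τ (MiscFlat6.topEquiv M).bijective
  have hτ : IsBaseChange Γ(Spec R, ⊤) τ := by
    let eA : R ≃ₐ[R] Γ(Spec R, ⊤) := AlgEquiv.ofBijective (Algebra.ofId R Γ(Spec R, ⊤))
      (ConcreteCategory.bijective_of_isIso (Scheme.ΓSpecIso R).inv)
    refine IsBaseChange.of_equiv
      (((eA.symm.toLinearEquiv.rTensor M).trans (TensorProduct.lid R M)).trans eτ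
        |>.extendScalarsOfSurjective
          (ConcreteCategory.bijective_of_isIso (Scheme.ΓSpecIso R).inv).2) fun x => ?_
    simp [eτ]
  let θ : M →ₗ[R] Γ(KFlatLib.pb g (tilde M), (⊤ : (Spec Q).Opens)) := (ψ.restrictScalars R).comp τ
  have hθ : IsBaseChange Γ(Spec Q, ⊤) θ := hτ.comp hb
  have hθs : Function.Surjective θ := fun y => by
    induction y using hθ.inductionOn with
    | zero => exact ⟨0, map_zero θ⟩
    | tmul x => exact ⟨x, rfl⟩
    | smul r n hn =>
      obtain ⟨x, rfl⟩ := hn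
      obtain ⟨r, rfl⟩ := hsurj r
      exact ⟨r • x, by rw [map_smul, algebraMap_smul]⟩
    | add x y hx hy =>
      obtain ⟨x, rfl⟩ := hx
      obtain ⟨y, rfl⟩ := hy
      exact ⟨x + y, map_add θ x y⟩
  choose t ht using fun j => hθs (e j)
  refine ⟨t, eq_top_iff.mpr fun x _ => ?_⟩
  obtain ⟨d, hd⟩ := (Submodule.mem_span_range_iff_exists_fun Γ(Spec Q, ⊤)).mp
    (he₀.ge (Submodule.mem_top (x := c.inv.app ⊤ (θ x))))
  choose d' hd' using fun j => hsurj (d j)
  have hx : θ (x - ∑ j, d' j • t j) = 0 := by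
    rw [map_sub, map_sum, sub_eq_zero]
    have h := congrArg (c.hom.app ⊤) hd
    rw [map_sum] at h
    refine (congrArg (fun f : _ ⟶ _ => Scheme.Modules.Hom.app f ⊤ (θ x)) c.inv_hom_id).symm.trans ?_
    refine h.symm.trans (Finset.sum_congr rfl fun j _ => ?_)
    rw [QCohLib.app_smul, map_smul, ← algebraMap_smul Γ(Spec Q, ⊤) (d' j), hd', ht]
  have := ker_baseChange hsurj hθ hx
  rw [← sub_add_cancel x (∑ j, d' j • t j), add_comm]
  exact Submodule.add_mem_sup (Submodule.sum_mem _ fun j _ => Submodule.smul_mem _ _ (Submodule.subset_span ⟨j, rfl⟩))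
    (Submodule.smul_mono_left hker this)

/-- A section over a closed subset inside a stratum. -/
theorem exists_lift_quotient {R : CommRingCat.{u}} {U : Scheme.{u}} (f : U ⟶ Spec R)
    {W : Set (Spec R)} (h : W4c5algebraiztannaka.HasSectOver f W) (J : Ideal R) (hJ : J.IsRadical)
    (hJW : PrimeSpectrum.zeroLocus (J : Set R) ⊆ W) :
    ∃ s : Spec (CommRingCat.of (R ⧸ J)) ⟶ U,
      s ≫ f = Spec.map (CommRingCat.ofHom (Ideal.Quotient.mk J)) := by
  obtain ⟨T, g, s, hg, hW, hs⟩ := h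
  let i : Spec (CommRingCat.of (R ⧸ J)) ⟶ Spec R := Spec.map (CommRingCat.ofHom (Ideal.Quotient.mk J))
  have hrange : ∀ p, i p ∈ W := fun p => hJW fun r hr => by
    change Ideal.Quotient.mk J r ∈ p.asIdeal
    rw [Ideal.Quotient.eq_zero_iff_mem.mpr hr]
    exact zero_mem _
  haveI : _root_.IsReduced (R ⧸ J) := (Ideal.isRadical_iff_quotient_reduced J).mp hJ
  haveI : IsReduced (Spec (CommRingCat.of (R ⧸ J))) := inferInstance
  haveI : IsImmersion g := hg
  let p : pullback i g ⟶ Spec (CommRingCat.of (R ⧸ J)) := pullback.fst i g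
  haveI : IsImmersion p := MorphismProperty.pullback_fst _ _ hg
  haveI : Surjective p := ⟨fun x => by
    have hx := hrange x
    rw [← hW] at hx
    obtain ⟨t, ht⟩ := hx
    obtain ⟨z, hz, -⟩ := Scheme.Pullback.exists_preimage_pullback x t ht.symm
    exact ⟨z, hz⟩⟩
  haveI : IsClosedImmersion p := IsClosedImmersion.of_isPreimmersion p (by
    rw [Surjective.surj (f := p) |>.range_eq]
    exact isClosed_univ)
  haveI : IsIso p := isIso_of_isClosedImmersion_of_surjective p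
  exact ⟨inv p ≫ pullback.snd i g ≫ s, by
    rw [Category.assoc, Category.assoc, hs, ← pullback.condition, IsIso.inv_hom_id_assoc]⟩

/-- Induction along the strata. -/
theorem gens_of_flag {R : CommRingCat.{u}} (M : ModuleCat.{u} R) [Module.Finite R M] {U : Scheme.{u}}
    (f : U ⟶ Spec R) {N : ℕ} (φ : FlatMod.freeMod U N ⟶ (Scheme.Modules.pullback f).obj (tilde M))
    [Epi φ] {m : ℕ} (Z : Fin (m + 1) → Set (Spec R)) (h0 : Z 0 = ∅) (hc : ∀ k, IsClosed (Z k))
    (hsec : ∀ k : Fin m, W4c5algebraiztannaka.HasSectOver f (Z k.succ \ Z k.castSucc)) (k : Fin (m + 1)) :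
    ∃ t : Fin (N * k.val) → M, Disjoint
      (PrimeSpectrum.zeroLocus ((Submodule.span R (Set.range t)).colon ⊤ : Set R)) (Z k) := by
  classical
  induction k using Fin.induction with
  | zero => exact ⟨0, by rw [h0]; exact Set.disjoint_empty _⟩
  | succ k ih =>
    obtain ⟨t, ht⟩ := ih
    obtain ⟨I, hI⟩ := (PrimeSpectrum.isClosed_iff_zeroLocus_ideal _).mp (hc k.succ)
    let C : Ideal R := (Submodule.span R (Set.range t)).colon ⊤
    let J : Ideal R := (C ⊔ I).radical
    have hJ : PrimeSpectrum.zeroLocus (J : Set R) =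
        PrimeSpectrum.zeroLocus (C : Set R) ∩ Z k.succ := by
      rw [PrimeSpectrum.zeroLocus_radical, PrimeSpectrum.zeroLocus_sup, hI]
    obtain ⟨s, hs⟩ := exists_lift_quotient f (hsec k) J (Ideal.radical_isRadical _) (by
      rw [hJ]
      exact fun p hp => ⟨hp.2, fun hp' => Set.disjoint_left.mp ht hp.1 hp'⟩)
    obtain ⟨t', ht'⟩ := gens_mod M f φ J s hs
    let t'' : Fin (N * k.succ.val) → M := fun x => Fin.append t t' (Fin.cast (by simp [Nat.mul_succ]) x)
    refine ⟨t'', Set.disjoint_left.mpr fun p hp hpZ => ?_⟩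
    have hsub : ∀ x : Fin (N * k.castSucc.val + N), Fin.append t t' x ∈ Submodule.span R (Set.range t'') :=
      fun x => Submodule.subset_span ⟨Fin.cast (by simp [Nat.mul_succ]) x, by simp [t'']⟩
    let K := Submodule.span R (Set.range t'')
    have hKt : Submodule.span R (Set.range t) ≤ K := Submodule.span_le.mpr (by
      rintro _ ⟨x, rfl⟩
      have := hsub (Fin.castAdd N x)
      rwa [Fin.append_left] at this)
    have hKt' : Submodule.span R (Set.range t') ≤ K := Submodule.span_le.mpr (by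
      rintro _ ⟨x, rfl⟩
      have := hsub (Fin.natAdd _ x)
      rwa [Fin.append_right] at this)
    have hpC : p ∈ PrimeSpectrum.zeroLocus (C : Set R) := fun r hr =>
      hp (Submodule.mem_colon.mpr fun x hx => hKt (Submodule.mem_colon.mp hr x hx))
    have hpJ : J ≤ p.asIdeal := by
      have : p ∈ PrimeSpectrum.zeroLocus (J : Set R) := hJ ▸ ⟨hpC, hpZ⟩
      exact this
    have htop : (⊤ : Submodule R (M ⧸ K)) ≤ J • (⊤ : Submodule R (M ⧸ K)) := by
      intro y _
      obtain ⟨x, rfl⟩ := Submodule.mkQ_surjective K y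
      obtain ⟨a, ha, b, hb, rfl⟩ := Submodule.mem_sup.mp (ht'.ge (Submodule.mem_top (x := x)))
      rw [map_add, show K.mkQ a = 0 from (Submodule.Quotient.mk_eq_zero K).mpr (hKt' ha), zero_add]
      refine (Submodule.map_smul'' J ⊤ K.mkQ).le.trans ?_ (Submodule.mem_map_of_mem hb)
      exact Submodule.smul_mono le_rfl le_top
    obtain ⟨r, hr1, hr⟩ := Submodule.exists_sub_one_mem_and_smul_eq_zero_of_fg_of_le_smul J ⊤
      Module.Finite.fg_top htop
    refine p.2.ne_top ((Ideal.eq_top_iff_one _).mpr ?_)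
    have hrp : r ∈ p.asIdeal := hp (Submodule.mem_colon.mpr fun x _ =>
      (Submodule.Quotient.mk_eq_zero K).mp (hr (K.mkQ x) trivial))
    have := p.asIdeal.sub_mem hrp (hpJ hr1)
    rwa [sub_sub_cancel] at this

end AlgzCohLib
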