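import Mathlib
import Groth.Prelude.Def_W4c5algebraiztannakaNis

/-!
# Refining a Nisnevich cover of an affine scheme by a finite open cover of the source
-/

set_option autoImplicit false
set_option linter.all false

universe u

open CategoryTheory CategoryTheory.Limits AlgebraicGeometry Topology TopologicalSpace

namespace AlgzCohLib

open W4c5algebraiztannaka

theorem isCompact_constructible {Z : Scheme.{u}} [CompactSpace Z] [QuasiSeparatedSpace Z]
    {K : Set Z} (hK : IsConstructible K) : IsCompact K := by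
  haveI : Nonempty Z.affineOpens := ⟨⟨⊥, isAffineOpen_bot Z⟩⟩
  induction K, hK using IsConstructible.induction_of_isTopologicalBasis
    (fun U : Z.affineOpens ↦ (U.1 : Set Z)) with
  | basis =>
    have h := Z.isBasis_affineOpens
    rw [TopologicalSpace.Opens.IsBasis] at h
    convert h using 1
    ext t
    constructor
    · rintro ⟨U, rfl⟩; exact ⟨U.1, U.2, rfl⟩
    · rintro ⟨U, hU, rfl⟩; exact ⟨⟨U, hU⟩, rfl⟩
  | isCompact_basis U => exact U.2.isCompact
  | sdiff U s hs => exact U.2.isCompact.diff (isOpen_biUnion fun V _ ↦ V.1.isOpen)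
  | union s hs t ht hs' ht' => exact hs'.union ht'

theorem isConstructible_preimage_scheme {X Y : Scheme.{u}} [QuasiSeparatedSpace X]
    [CompactSpace X] [QuasiSeparatedSpace Y] [CompactSpace Y] (g : X ⟶ Y) [QuasiCompact g]
    {E : Set Y} (hE : IsConstructible E) : IsConstructible (g ⁻¹' E) :=
  hE.preimage g.continuous fun s hs hr =>
    (QuasiSeparatedSpace.isRetrocompact_iff_isCompact (hs.preimage g.continuous)).mpr
      (QuasiCompact.isCompact_preimage (f := g) s hs ((QuasiSeparatedSpace.isRetrocompact_iff_isCompact hs).mp hr))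

variable {B : CommRingCat.{u}}

theorem quasiCompact_of_range {T : Scheme.{u}} (i : T ⟶ Spec B) [IsImmersion i]
    (h : IsConstructible (Set.range i : Set (Spec B))) : QuasiCompact i :=
  quasiCompact_iff_forall_isAffineOpen.mpr fun U hU => by
    have hc : IsConstructible (Set.range i ∩ (U : Set (Spec B))) :=
      h.inter (hU.isCompact.isConstructible U.isOpen)
    have he : (i ⁻¹ᵁ U : Set T) = i ⁻¹' (Set.range i ∩ (U : Set (Spec B))) := by
      ext x; simp
    rw [he]
    exact i.isEmbedding.isCompact_preimage' (isCompact_constructible hc) Set.inter_subset_left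

theorem isConstructible_image {T P : Scheme.{u}} (i : T ⟶ Spec B) [IsImmersion i]
    (h : IsConstructible (Set.range i : Set (Spec B))) (p : P ⟶ Spec B) [QuasiSeparated p]
    (s : T ⟶ P) (hs : s ≫ p = i) (O : P.Opens) (hO : IsCompact (O : Set P)) :
    IsConstructible (i '' (s ⁻¹ᵁ O : Set T)) := by
  haveI := quasiCompact_of_range i h
  haveI : QuasiCompact (s ≫ p) := hs ▸ inferInstance
  haveI : QuasiCompact s := QuasiCompact.of_comp s p
  have hc : IsCompact (s ⁻¹ᵁ O : Set T) := QuasiCompact.isCompact_preimage (f := s) _ O.isOpen hO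
  obtain ⟨Ω, hΩ, hΩ'⟩ := i.isEmbedding.isOpen_iff.mp (s ⁻¹ᵁ O).isOpen
  have hK : IsCompact (i '' (s ⁻¹ᵁ O : Set T)) := hc.image i.continuous
  have hcov : ∀ x ∈ i '' (s ⁻¹ᵁ O : Set T), ∃ V : (Spec B).Opens, IsCompact (V : Set (Spec B)) ∧
      x ∈ V ∧ (V : Set (Spec B)) ⊆ Ω := by
    rintro _ ⟨t, ht, rfl⟩
    obtain ⟨V, hV, hxV, hVΩ⟩ := exists_isAffineOpen_mem_and_subset (X := Spec B) (x := i t)
      (U := ⟨Ω, hΩ⟩) (show t ∈ i ⁻¹' Ω by rw [hΩ']; exact ht)
    exact ⟨V, hV.isCompact, hxV, hVΩ⟩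
  choose V hVc hxV hVΩ using hcov
  obtain ⟨τ, hτ⟩ := hK.elim_finite_subcover
    (fun x : i '' (s ⁻¹ᵁ O : Set T) => (V x.1 x.2 : Set (Spec B))) (fun x => (V x.1 x.2).isOpen)
    (fun x hx => Set.mem_iUnion.mpr ⟨⟨x, hx⟩, hxV x hx⟩)
  have he : i '' (s ⁻¹ᵁ O : Set T) =
      Set.range i ∩ ⋃ x ∈ τ, (V x.1 x.2 : Set (Spec B)) := by
    refine Set.Subset.antisymm (Set.subset_inter (Set.image_subset_range _ _) hτ) ?_
    rintro _ ⟨⟨t, rfl⟩, hx⟩
    obtain ⟨x, hx, hxV'⟩ := Set.mem_iUnion₂.mp hx
    refine ⟨t, ?_, rfl⟩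
    rw [← hΩ']
    exact hVΩ x.1 x.2 hxV'
  rw [he]
  refine h.inter (IsCompact.isConstructible (τ.isCompact_biUnion fun x _ => hVc x.1 x.2) ?_)
  exact isOpen_biUnion fun x _ => (V x.1 x.2).isOpen

/-- A Nisnevich cover refined by a finite cover of the source by quasi-compact opens. -/
theorem isNisCoverLen_sigma {P : Scheme.{u}} (p : P ⟶ Spec B) [QuasiSeparated p] (hp : Etale p)
    {m n : ℕ} (Z : Fin (m + 1) → Set (Spec B)) (h0 : Z 0 = ∅) (hlast : Z (Fin.last m) = Set.univ)
    (hmono : Monotone Z) (hc : ∀ k, IsClosed (Z k) ∧ IsConstructible (Z k))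
    (hsec : ∀ k : Fin m, HasSectOver p (Z k.succ \ Z k.castSucc))
    (O : Fin n → P.Opens) (hO : ∀ j, IsCompact (O j : Set P)) (hcov : ⨆ j, O j = ⊤) :
    IsNisCoverLen (Sigma.desc fun j => (O j).ι ≫ p) (m * n) := by
  classical
  refine ⟨IsZariskiLocalAtSource.sigmaDesc (P := @Etale) fun j =>
    MorphismProperty.comp_mem _ _ _ (inferInstance : Etale (O j).ι) hp, ?_⟩
  choose T g s hg hrange hs using hsec
  have hrange' : ∀ k, Set.range (g k) = Z k.succ \ Z k.castSucc := hrange
  let W : ℕ → Fin n → Set (Spec B) := fun k j =>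
    if h : k < m then g ⟨k, h⟩ '' (s ⟨k, h⟩ ⁻¹ᵁ O j : Set (T ⟨k, h⟩)) else ∅
  have hW : ∀ k j, IsConstructible (W k j) := fun k j => by
    by_cases h : k < m
    · simp only [W, dif_pos h]
      haveI := hg ⟨k, h⟩
      exact isConstructible_image (g ⟨k, h⟩) (by rw [hrange']; exact (hc _).2.sdiff (hc _).2) p _
        (hs _) _ (hO j)
    · simp only [W, dif_neg h]; exact IsConstructible.empty
  let Zn : ℕ → Set (Spec B) := fun k => Z ⟨min k m, by omega⟩
  let rest : ℕ → ℕ → Set (Spec B) := fun k i => ⋃ j : {j : Fin n // i ≤ j.val}, W k j.1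
  let F : ℕ → ℕ → Set (Spec B) := fun k i => Zn k ∪ ((Zn (k + 1) \ Zn k) \ rest k i)
  have hD : ∀ k (h : k < m), Zn (k + 1) \ Zn k = Set.range (g ⟨k, h⟩) := fun k h => by
    rw [hrange']
    have e1 : (⟨min (k + 1) m, by omega⟩ : Fin (m + 1)) = Fin.succ ⟨k, h⟩ :=
      Fin.ext (show min (k + 1) m = k + 1 by omega)
    have e2 : (⟨min k m, by omega⟩ : Fin (m + 1)) = Fin.castSucc ⟨k, h⟩ :=
      Fin.ext (show min k m = k by omega)
    simp only [Zn]
    rw [e1, e2]
  have hWD : ∀ k j, W k j ⊆ Zn (k + 1) \ Zn k := fun k j => by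
    by_cases h : k < m
    · simp only [W, dif_pos h, hD k h]; exact Set.image_subset_range _ _
    · simp only [W, dif_neg h]; exact Set.empty_subset _
  have hF0 : ∀ k, F k 0 = Zn k := fun k => by
    refine Set.union_eq_left.mpr fun x hx => absurd ?_ hx.2
    by_cases h : k < m
    · have hx1 := hx.1
      rw [hD k h] at hx1
      obtain ⟨t, rfl⟩ := hx1
      have ht : s ⟨k, h⟩ t ∈ (⨆ j, O j : P.Opens) := by rw [hcov]; trivial
      obtain ⟨j, hj⟩ := Opens.mem_iSup.mp ht
      refine Set.mem_iUnion.mpr ⟨⟨j, Nat.zero_le _⟩, ?_⟩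
      simp only [W, dif_pos h]
      exact ⟨t, hj, rfl⟩
    · refine absurd hx.1 ?_
      simp [Zn, Nat.min_eq_right (not_lt.mp h), Nat.min_eq_right (le_trans (not_lt.mp h) k.le_succ)]
  have hZn : ∀ k, Zn k ⊆ Zn (k + 1) := fun k => hmono (by
    change min k m ≤ min (k + 1) m
    omega)
  have hFn : ∀ k, F k n = Zn (k + 1) := fun k => by
    have : rest k n = ∅ := Set.iUnion_eq_empty.mpr fun j => absurd j.1.isLt (not_lt.mpr j.2)
    simp only [F, this, Set.sdiff_empty]
    rw [Set.union_sdiff_self, Set.union_eq_right.mpr (hZn k)]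
  have hclosed : ∀ k i, IsClosed (F k i) ∧ IsConstructible (F k i) := fun k i => by
    refine ⟨?_, (hc _).2.union (((hc _).2.sdiff (hc _).2).sdiff
      (IsConstructible.iUnion fun j => hW k j.1))⟩
    by_cases h : k < m
    · haveI := hg ⟨k, h⟩
      obtain ⟨Ω, hΩ, hΩ'⟩ := (g ⟨k, h⟩).isEmbedding.isOpen_iff.mp
        (isOpen_iUnion fun j : {j : Fin n // i ≤ j.val} => (s ⟨k, h⟩ ⁻¹ᵁ O j.1).isOpen)
      have e : rest k i = Set.range (g ⟨k, h⟩) ∩ Ω := by
        simp only [rest, W, dif_pos h, ← Set.image_iUnion]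
        rw [← hΩ', Set.image_preimage_eq_range_inter]
      have : F k i = Zn (k + 1) ∩ (Zn k ∪ Ωᶜ) := by
        rw [← hD k h] at e
        simp only [F, e]
        ext x
        have := @hZn k x
        simp only [Set.mem_union, Set.mem_sdiff, Set.mem_inter_iff, Set.mem_compl_iff]
        tauto
      rw [this]
      exact (hc _).1.inter ((hc _).1.union hΩ.isClosed_compl)
    · have : Zn (k + 1) \ Zn k = ∅ := by
        simp [Zn, Nat.min_eq_right (not_lt.mp h), Nat.min_eq_right (le_trans (not_lt.mp h) k.le_succ)]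
      simp only [F, this, Set.empty_sdiff, Set.union_empty]
      exact (hc _).1
  have hZ0 : Zn 0 = ∅ := by
    rw [← h0]
    congr 1
  refine ⟨fun x => F (x.val / n) (x.val % n), ?_, ?_, ?_, fun x => hclosed _ _, fun x => ?_⟩
  · simp [hF0, hZ0]
  · rcases Nat.eq_zero_or_pos n with rfl | hn
    · have hemp : IsEmpty P := ⟨fun q => by
        have : q ∈ (⨆ j, O j : P.Opens) := by rw [hcov]; trivial
        obtain ⟨j, -⟩ := Opens.mem_iSup.mp this
        exact j.elim0⟩
      simp only [Fin.val_last, Nat.mul_zero, Nat.zero_div, Nat.zero_mod, hF0, hZ0]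
      refine (Set.univ_eq_empty_iff.mpr ⟨fun q => ?_⟩).symm
      have hq : q ∈ Z (Fin.last m) := hlast ▸ trivial
      have : ∀ k : Fin (m + 1), q ∉ Z k := fun k => by
        induction k using Fin.induction with
        | zero => rw [h0]; exact id
        | succ k ih =>
          intro hk
          obtain ⟨t, -⟩ := ((hrange' k).ge ⟨hk, ih⟩ : q ∈ Set.range (g k))
          exact hemp.false (s k t)
      exact this _ hq
    · simp only [Fin.val_last, Nat.mul_div_left _ hn, Nat.mul_mod_left, hF0, Zn, min_self]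
      exact hlast
  · refine Fin.monotone_iff_le_succ.mpr fun x => ?_
    have hn : 0 < n := Nat.pos_of_ne_zero fun hn => by have := x.isLt; simp [hn] at this
    have key : F ((x.val + 1) / n) ((x.val + 1) % n) = F (x.val / n) (x.val % n + 1) := by
      rcases (Nat.succ_le_of_lt (Nat.mod_lt x.val hn)).lt_or_eq with h | h
      · have hx : x.val + 1 = n * (x.val / n) + (x.val % n + 1) := by
          rw [← add_assoc, Nat.div_add_mod]
        rw [hx, Nat.mul_add_div hn, Nat.mul_add_mod, Nat.div_eq_of_lt h, Nat.mod_eq_of_lt h, add_zero]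
      · have hx : x.val + 1 = n * (x.val / n + 1) := by
          have := Nat.div_add_mod x.val n
          rw [Nat.mul_succ]; simp only [Nat.succ_eq_add_one] at h; omega
        have h' : x.val % n + 1 = n := h
        rw [hx, Nat.mul_div_cancel_left _ hn, Nat.mul_mod_right, hF0, h', hFn]
    simp only [Fin.val_castSucc, Fin.val_succ, key]
    refine Set.union_subset_union_right _ (Set.sdiff_subset_sdiff_right ?_)
    exact Set.iUnion_subset fun j => Set.subset_iUnion (fun j : {j : Fin n // x.val % n ≤ j.val} => W _ j.1) ⟨j.1, by have := j.2; omega⟩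
  · have hn : 0 < n := Nat.pos_of_ne_zero fun hn => by have := x.isLt; simp [hn] at this
    have key : F ((x.val + 1) / n) ((x.val + 1) % n) = F (x.val / n) (x.val % n + 1) := by
      rcases (Nat.succ_le_of_lt (Nat.mod_lt x.val hn)).lt_or_eq with h | h
      · have hx : x.val + 1 = n * (x.val / n) + (x.val % n + 1) := by
          rw [← add_assoc, Nat.div_add_mod]
        rw [hx, Nat.mul_add_div hn, Nat.mul_add_mod, Nat.div_eq_of_lt h, Nat.mod_eq_of_lt h, add_zero]
      · have hx : x.val + 1 = n * (x.val / n + 1) := by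
          have := Nat.div_add_mod x.val n
          rw [Nat.mul_succ]; simp only [Nat.succ_eq_add_one] at h; omega
        have h' : x.val % n + 1 = n := h
        rw [hx, Nat.mul_div_cancel_left _ hn, Nat.mul_mod_right, hF0, h', hFn]
    have hk : x.val / n < m := Nat.div_lt_of_lt_mul (lt_of_lt_of_eq x.isLt (Nat.mul_comm m n))
    let i : Fin n := ⟨x.val % n, Nat.mod_lt _ hn⟩
    have hdiff : F (x.val / n) (x.val % n + 1) \ F (x.val / n) (x.val % n) =
        W (x.val / n) i \ rest (x.val / n) (x.val % n + 1) := by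
      ext z
      have hrest : z ∈ rest (x.val / n) (x.val % n) ↔
          z ∈ W (x.val / n) i ∨ z ∈ rest (x.val / n) (x.val % n + 1) := by
        simp only [rest, Set.mem_iUnion, Subtype.exists, exists_prop]
        constructor
        · rintro ⟨j, hj, hz⟩
          rcases hj.eq_or_lt with e | e
          · exact Or.inl ((show i = j from Fin.ext e) ▸ hz)
          · exact Or.inr ⟨j, e, hz⟩
        · rintro (hz | ⟨j, hj, hz⟩)
          · exact ⟨i, le_refl _, hz⟩
          · exact ⟨j, by omega, hz⟩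
      have hWi := @hWD (x.val / n) i z
      simp only [F, Set.mem_union, Set.mem_sdiff, hrest] at hWi ⊢
      tauto
    simp only [Fin.val_castSucc, Fin.val_succ, key, hdiff]
    -- the section over this stratum
    let k : Fin m := ⟨x.val / n, hk⟩
    let Ω : (T k).Opens := s k ⁻¹ᵁ O i
    let C : Set (T k) := (⋃ j : {j : Fin n // x.val % n + 1 ≤ j.val}, (s k ⁻¹ᵁ O j.1 : Set (T k)))ᶜ
    have hC : IsClosed (Ω.ι ⁻¹' C) :=
      ((isOpen_iUnion fun j : {j : Fin n // x.val % n + 1 ≤ j.val} => (s k ⁻¹ᵁ O j.1).isOpen).isClosed_compl).preimage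
        Ω.ι.continuous
    let I := Scheme.IdealSheafData.vanishingIdeal (X := (Ω : Scheme.{u})) ⟨_, hC⟩
    let σ : (I.subscheme) ⟶ (O i : Scheme.{u}) := I.subschemeι ≫ (s k).resLE (O i) Ω le_rfl
    refine ⟨I.subscheme, I.subschemeι ≫ Ω.ι ≫ g k, σ ≫ Sigma.ι (fun j => (O j : Scheme.{u})) i,
      ?_, ?_, ?_⟩
    · haveI := hg k
      infer_instance
    · change Set.range (I.subschemeι ≫ Ω.ι ≫ g k) = _
      rw [Scheme.Hom.comp_base, TopCat.coe_comp, Set.range_comp, Scheme.IdealSheafData.range_subschemeι,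
        Scheme.Hom.comp_base, TopCat.coe_comp, Set.image_comp]
      simp only [I, Scheme.IdealSheafData.coe_support_vanishingIdeal]
      change g k '' (Ω.ι '' (Ω.ι ⁻¹' C)) = _
      rw [Set.image_preimage_eq_inter_range, Scheme.Opens.range_ι]
      simp only [W, rest, dif_pos hk, C, ← Set.image_iUnion]
      haveI := hg k
      rw [Set.inter_comm, ← Set.sdiff_eq]
      exact Set.image_sdiff (g k).isEmbedding.injective _ _
    · simp only [σ, Category.assoc, Sigma.ι_desc, Scheme.Hom.resLE_comp_ι_assoc, hs k]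

end AlgzCohLib
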