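import Groth.Agent.AlgzCohLib.BoundedPres
import Groth.Agent.KFlatLib.AffinePull
import Groth.Agent.FlatLib.SectionsFP
import Groth.Agent.QCohLib.Affine
import Groth.Prelude.Def_CohB1

/-!
# Presentations of uniformly bounded size for pullbacks to affine schemes
-/

set_option autoImplicit false
set_option linter.all false

universe u

open CategoryTheory CategoryTheory.Limits AlgebraicGeometry TopologicalSpace Opposite

namespace AlgzCohLib

theorem exists_split_one {R : CommRingCat.{u}} {A : Type} [Fintype A] (W : A → (Spec R).Opens)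
    (hW : ⨆ a, W a = ⊤) : ∃ g : A → Γ(Spec R, ⊤),
      Ideal.span (Set.range g) = ⊤ ∧ ∀ a, (Spec R).basicOpen (g a) ≤ W a := by
  classical
  have hI : ∀ a, ∃ I : Ideal R, (SetLike.coe (W a) : Set (PrimeSpectrum R))ᶜ = PrimeSpectrum.zeroLocus (I : Set R) :=
    fun a => (PrimeSpectrum.isClosed_iff_zeroLocus_ideal _).mp (W a).2.isClosed_compl
  choose I hI using hI
  have htop : ⨆ a, I a = ⊤ := by
    by_contra hne
    obtain ⟨p, hp, hle⟩ := Ideal.exists_le_maximal _ hne
    have hx : (⟨p, hp.isPrime⟩ : PrimeSpectrum R) ∈ (⨆ a, W a : (Spec R).Opens) := by rw [hW]; trivial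
    obtain ⟨a, ha⟩ := Opens.mem_iSup.mp hx
    exact ((Set.ext_iff.mp (hI a) _).mpr ((le_iSup I a).trans hle)) ha
  obtain ⟨g, hg⟩ := (Submodule.mem_iSup_finset_iff_exists_sum (s := Finset.univ) I (1 : R)).mp
    (by simp [htop])
  refine ⟨fun a => (Scheme.ΓSpecIso R).inv (g a : R), ?_, fun a => ?_⟩
  · rw [Ideal.eq_top_iff_one, ← map_one (Scheme.ΓSpecIso R).inv.hom, ← hg, map_sum]
    exact Ideal.sum_mem _ fun a _ => Ideal.subset_span ⟨a, rfl⟩
  · rw [basicOpen_eq_of_affine]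
    intro p hp
    by_contra hc
    exact hp ((Set.ext_iff.mp (hI a) p).mp hc (g a).2)

theorem exists_bounded_pres {X : Scheme.{u}} [CompactSpace X] (F : X.Modules) (hF : CohB1.IsFP F) :
    ∃ (ι κ : Type) (_ : Fintype ι) (_ : Fintype κ), ∀ (R : CommRingCat.{u}) (f : Spec R ⟶ X),
      Pres Γ(Spec R, ⊤) Γ((Scheme.Modules.pullback f).obj F, (⊤ : (Spec R).Opens)) ι κ := by
  classical
  haveI : SheafOfModules.IsFinitePresentation (R := X.ringCatSheaf) F := hF
  haveI : Coh.IsQCoh F := inferInstance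
  have hnhd : ∀ x : X, ∃ U : X.Opens, IsAffineOpen U ∧ x ∈ U ∧
      Module.FinitePresentation Γ(X, U) Γ(F, U) := fun x => by
    obtain ⟨U, hU, -, hxU, hfp⟩ := FlatLib.exists_finitePresentation_nhd hF (x := x) (Opens.mem_top x)
    exact ⟨U, hU, hxU, hfp⟩
  choose U hUa hxU hUfp using hnhd
  obtain ⟨s, hs⟩ := isCompact_univ.elim_finite_subcover (fun x => (U x : Set X)) (fun x => (U x).2)
    (fun x _ => Set.mem_iUnion_of_mem x (hxU x))
  let V : Fin s.card → X := fun a => (s.equivFin.symm a).1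
  have hpres : ∀ a, ∃ N K : ℕ, Pres Γ(X, U (V a)) Γ(F, U (V a)) (Fin N) (Fin K) := fun a =>
    haveI := hUfp (V a)
    exists_pres _ _
  choose N K hNK using hpres
  refine ⟨Σ a, Fin (N a), Σ a, (Σ b, Fin (N b)) ⊕ Fin (K a), inferInstance, inferInstance, fun R f => ?_⟩
  obtain ⟨g, hg, hgle⟩ := exists_split_one (fun a => f ⁻¹ᵁ U (V a)) (by
    refine eq_top_iff.mpr fun p _ => ?_
    obtain ⟨x, hx, hp⟩ := Set.mem_iUnion₂.mp (hs (Set.mem_univ (f p)))
    refine Opens.mem_iSup.mpr ⟨s.equivFin ⟨x, hx⟩, ?_⟩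
    change f p ∈ U (V _)
    simp only [V, Equiv.symm_apply_apply]
    exact hp)
  let G := (Scheme.Modules.pullback f).obj F
  haveI : Coh.IsQCoh G := KFlatLib.isQCoh_pullback f F
  let D : Fin s.card → (Spec R).Opens := fun a => (Spec R).basicOpen (g a)
  letI : ∀ a, Algebra Γ(Spec R, ⊤) Γ(Spec R, D a) := fun a =>
    ((Spec R).presheaf.map (homOfLE le_top : D a ⟶ ⊤).op).hom.toAlgebra
  haveI : ∀ a, IsLocalization.Away (g a) Γ(Spec R, D a) := fun a =>
    (isAffineOpen_top (Spec R)).isLocalization_basicOpen (g a)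
  letI : ∀ a, Module Γ(Spec R, ⊤) Γ(G, D a) := fun a =>
    Module.compHom _ (algebraMap Γ(Spec R, ⊤) Γ(Spec R, D a))
  haveI : ∀ a, IsScalarTower Γ(Spec R, ⊤) Γ(Spec R, D a) Γ(G, D a) := fun a =>
    IsScalarTower.of_algebraMap_smul fun _ _ => rfl
  let l : ∀ a, Γ(G, (⊤ : (Spec R).Opens)) →ₗ[Γ(Spec R, ⊤)] Γ(G, D a) := fun a =>
    { toFun := fun z => G.presheaf.map (homOfLE le_top : D a ⟶ ⊤).op z
      map_add' := fun x y => map_add _ x y
      map_smul' := fun r x => Scheme.Modules.map_smul _ _ r x }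
  haveI : ∀ a, IsLocalizedModule (Submonoid.powers (g a)) (l a) := fun a => by
    have hl := QCohLib.localizingAt_of_isQCoh (isAffineOpen_top (Spec R)) G (g a)
    refine IsLocalizedModule.Away.mk_of_addCommGroup ?_ ?_ ?_
    · have hu : IsUnit (algebraMap Γ(Spec R, ⊤) Γ(Spec R, D a) (g a)) :=
        IsLocalization.Away.algebraMap_isUnit (g a)
      rw [Module.End.isUnit_iff]
      have hb : Function.Bijective (fun z : Γ(G, D a) =>
          algebraMap Γ(Spec R, ⊤) Γ(Spec R, D a) (g a) • z) := hu.smul_bijective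
      exact hb
    · intro z
      obtain ⟨n, t, ht⟩ := hl.exists_extend z
      refine ⟨n, t, ?_⟩
      rw [← algebraMap_smul Γ(Spec R, D a), map_pow]
      exact ht.symm
    · intro z hz
      obtain ⟨n, hn⟩ := hl.eq_zero z hz
      exact ⟨n, by simpa using hn⟩
  refine pres_of_local g hg (fun a => Γ(Spec R, D a)) (fun a => Γ(G, D a)) l _ _ fun a => ?_
  have hD : IsAffineOpen (D a) := (isAffineOpen_top (Spec R)).basicOpen _
  have hle : D a ≤ f ⁻¹ᵁ U (V a) := hgle a
  letI : Algebra Γ(X, U (V a)) Γ(Spec R, D a) := (f.appLE (U (V a)) (D a) hle).hom.toAlgebra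
  letI : Module Γ(X, U (V a)) Γ(G, D a) := Module.compHom _ (f.appLE (U (V a)) (D a) hle).hom
  haveI : IsScalarTower Γ(X, U (V a)) Γ(Spec R, D a) Γ(G, D a) :=
    IsScalarTower.of_algebraMap_smul fun _ _ => rfl
  let ψ : Γ(F, U (V a)) →ₗ[Γ(X, U (V a))] Γ(G, D a) :=
    { toFun := KFlatLib.puSecLE f F hle
      map_add' := fun x y => map_add (KFlatLib.puSecLE f F hle) x y
      map_smul' := fun r x => KFlatLib.puSecLE_smul f F hle r x }
  exact (hNK a).baseChange
    (KFlatLib.isBaseChange_puSec f F (hUa (V a)) hD hle (fun _ => rfl) ψ (fun _ => rfl))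

end AlgzCohLib

namespace AlgzCohLib

/-- A product of affine opens over an affine open is affine. -/
theorem isAffineOpen_pullback_inf {X Y Z : Scheme.{u}} {f : X ⟶ Z} {g : Y ⟶ Z} {U : X.Opens}
    (hU : IsAffineOpen U) {V : Y.Opens} (hV : IsAffineOpen V) {W : Z.Opens} (hW : IsAffineOpen W)
    (hUW : U ≤ f ⁻¹ᵁ W) (hVW : V ≤ g ⁻¹ᵁ W) :
    IsAffineOpen (pullback.fst f g ⁻¹ᵁ U ⊓ pullback.snd f g ⁻¹ᵁ V) := by
  haveI : IsAffine U.toScheme := hU
  haveI : IsAffine V.toScheme := hV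
  haveI : IsAffine W.toScheme := hW
  let p : pullback (f.resLE W U hUW) (g.resLE W V hVW) ⟶ pullback f g :=
    pullback.map _ _ _ _ U.ι V.ι W.ι (by simp) (by simp)
  convert isAffineOpen_opensRange p
  refine TopologicalSpace.Opens.ext ?_
  show _ = Set.range p
  simp [p, Scheme.Pullback.range_map]

end AlgzCohLib
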