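import Groth.Agent.AlgzCohLib.NisGens
import Mathlib

/-!
# Bounded generation along a Nisnevich cover by an affine scheme
-/

set_option autoImplicit false
set_option linter.all false

universe u

open CategoryTheory AlgebraicGeometry TensorProduct

namespace AlgzCohLib

/-- `M` is generated by `G` elements. -/
def GenBy (R : Type u) [CommRing R] (G : ℕ) (M : Type u) [AddCommGroup M] [Module R M] : Prop :=
  ∃ g : (Fin G → R) →ₗ[R] M, Function.Surjective g

section
variable {R : Type u} [CommRing R] {M M' : Type u} [AddCommGroup M] [Module R M] [AddCommGroup M']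
  [Module R M'] {G G' : ℕ}

theorem GenBy.of_surjective (h : GenBy R G M) (f : M →ₗ[R] M') (hf : Function.Surjective f) :
    GenBy R G M' := by
  obtain ⟨g, hg⟩ := h
  exact ⟨f.comp g, hf.comp hg⟩

theorem genBy_iff : GenBy R G M ↔ ∃ s : Fin G → M, Submodule.span R (Set.range s) = ⊤ := by
  classical
  constructor
  · rintro ⟨g, hg⟩
    refine ⟨fun j => g (Pi.single j 1), eq_top_iff.mpr fun x _ => ?_⟩
    obtain ⟨c, rfl⟩ := hg x
    rw [pi_eq_sum_univ' c, map_sum]
    refine Submodule.sum_mem _ fun j _ => ?_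
    rw [map_smul]
    exact Submodule.smul_mem _ _ (Submodule.subset_span ⟨j, rfl⟩)
  · rintro ⟨s, hs⟩
    refine ⟨Fintype.linearCombination R s, ?_⟩
    rw [← LinearMap.range_eq_top, Fintype.range_linearCombination]
    exact hs

theorem GenBy.mono (h : GenBy R G M) (hG : G ≤ G') : GenBy R G' M := by
  obtain ⟨k, rfl⟩ := Nat.exists_eq_add_of_le hG
  obtain ⟨s, hs⟩ := genBy_iff.mp h
  refine genBy_iff.mpr ⟨Fin.append s 0, eq_top_iff.mpr (hs.ge.trans (Submodule.span_mono ?_))⟩
  rintro _ ⟨j, rfl⟩
  exact ⟨Fin.castAdd k j, Fin.append_left _ _ _⟩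

theorem genBy_of_subsingleton [Subsingleton M] : GenBy R G M :=
  ⟨0, fun x => ⟨0, Subsingleton.elim _ _⟩⟩

theorem genBy_pi : GenBy R G (Fin G → R) := ⟨LinearMap.id, fun x => ⟨x, rfl⟩⟩

theorem GenBy.prod (h : GenBy R G M) (h' : GenBy R G' M') : GenBy R (G + G') (M × M') := by
  obtain ⟨g, hg⟩ := h
  obtain ⟨g', hg'⟩ := h'
  refine ⟨(g.comp (LinearMap.funLeft R R (Fin.castAdd G'))).prod
    (g'.comp (LinearMap.funLeft R R (Fin.natAdd G))), fun x => ?_⟩
  obtain ⟨c, hc⟩ := hg x.1
  obtain ⟨c', hc'⟩ := hg' x.2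
  refine ⟨Fin.append c c', Prod.ext ?_ ?_⟩
  · refine Eq.trans (congrArg g (funext fun j => ?_)) hc
    simp [LinearMap.funLeft_apply]
  · refine Eq.trans (congrArg g' (funext fun j => ?_)) hc'
    simp [LinearMap.funLeft_apply]

end

section
variable {R : Type u} [CommRing R] {B : Type u} [CommRing B] [Algebra R B]

theorem gens_mod_alg (M : Type u) [AddCommGroup M] [Module R M] {N : ℕ} (e : Fin N → B ⊗[R] M)
    (he : Submodule.span B (Set.range e) = ⊤) (J : Ideal R) (σ : B →ₐ[R] R ⧸ J) :
    ∃ t : Fin N → M, Submodule.span R (Set.range t) ⊔ J • (⊤ : Submodule R M) = ⊤ := by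
  let Φ : B ⊗[R] M →ₗ[R] M ⧸ J • (⊤ : Submodule R M) :=
    (TensorProduct.quotTensorEquivQuotSMul M J).toLinearMap.comp (LinearMap.rTensor M σ.toLinearMap)
  have hΦ : ∀ (b : B) (z : B ⊗[R] M) (r : R), σ b = Ideal.Quotient.mk J r → Φ (b • z) = r • Φ z := by
    intro b z r hr
    induction z using TensorProduct.induction_on with
    | zero => simp
    | tmul b' m =>
      obtain ⟨r', hr'⟩ := Ideal.Quotient.mk_surjective (σ b')
      rw [TensorProduct.smul_tmul', smul_eq_mul]
      simp only [Φ, LinearMap.comp_apply, LinearMap.rTensor_tmul, AlgHom.toLinearMap_apply,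
        LinearEquiv.coe_toLinearMap]
      rw [show σ (b * b') = Ideal.Quotient.mk J (r * r') by rw [map_mul, hr, ← hr', map_mul], ← hr',
        TensorProduct.quotTensorEquivQuotSMul_mk_tmul, TensorProduct.quotTensorEquivQuotSMul_mk_tmul,
        mul_smul]
      rfl
    | add x y hx hy => rw [smul_add, map_add, map_add, hx, hy, smul_add]
  choose t ht using fun j => Submodule.mkQ_surjective (J • (⊤ : Submodule R M)) (Φ (e j))
  refine ⟨t, eq_top_iff.mpr fun x _ => ?_⟩
  obtain ⟨c, hc⟩ := (Submodule.mem_span_range_iff_exists_fun B).mp (he.ge (Submodule.mem_top (x := (1 : B) ⊗ₜ[R] x)))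
  choose c' hc' using fun j => Ideal.Quotient.mk_surjective (σ (c j))
  have h1 : Φ ((1 : B) ⊗ₜ[R] x) = (J • (⊤ : Submodule R M)).mkQ x := by
    simp only [Φ, LinearMap.comp_apply, LinearMap.rTensor_tmul, AlgHom.toLinearMap_apply, map_one,
      LinearEquiv.coe_toLinearMap]
    rw [show (1 : R ⧸ J) = Ideal.Quotient.mk J 1 from (map_one _).symm,
      TensorProduct.quotTensorEquivQuotSMul_mk_tmul, one_smul, Submodule.mkQ_apply]
  have h2 : x - ∑ j, c' j • t j ∈ J • (⊤ : Submodule R M) := by
    rw [← Submodule.Quotient.mk_eq_zero, ← Submodule.mkQ_apply, map_sub, ← h1, ← hc, map_sum, map_sum,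
      sub_eq_zero]
    refine Finset.sum_congr rfl fun j _ => ?_
    rw [hΦ _ _ _ (hc' j).symm, LinearMap.map_smul, ht]
  rw [← add_sub_cancel (∑ j, c' j • t j) x]
  exact Submodule.add_mem_sup (Submodule.sum_mem _ fun j _ => Submodule.smul_mem _ _
    (Submodule.subset_span ⟨j, rfl⟩)) h2

/-- If `B ⊗ M` needs `N` generators and `Spec B` has sections along a stratification of length `L`,
then `M` needs `N * L` generators. -/
theorem genBy_of_flag (M : Type u) [AddCommGroup M] [Module R M] [Module.Finite R M] {N L : ℕ}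
    (hf : W4c5algebraiztannaka.IsNisCoverLen (Spec.map (CommRingCat.ofHom (algebraMap R B))) L)
    (h : GenBy B N (B ⊗[R] M)) : GenBy R (N * L) M := by
  classical
  obtain ⟨e, he⟩ := genBy_iff.mp h
  obtain ⟨Z, h0, hlast, -, hc, hsec⟩ := hf.flag
  have key : ∀ k : Fin (L + 1), ∃ t : Fin (N * k.val) → M, Disjoint
      (PrimeSpectrum.zeroLocus ((Submodule.span R (Set.range t)).colon ⊤ : Set R)) (Z k : Set (PrimeSpectrum R)) := by
    intro k
    induction k using Fin.induction with
    | zero => exact ⟨0, by rw [h0]; exact Set.disjoint_empty _⟩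
    | succ k ih =>
      obtain ⟨t, ht⟩ := ih
      obtain ⟨I, hI⟩ := (PrimeSpectrum.isClosed_iff_zeroLocus_ideal _).mp
        ((hc k.succ).1 : IsClosed (Z k.succ : Set (PrimeSpectrum R)))
      let C : Ideal R := (Submodule.span R (Set.range t)).colon ⊤
      let J : Ideal R := (C ⊔ I).radical
      have hJ : PrimeSpectrum.zeroLocus (J : Set R) =
          PrimeSpectrum.zeroLocus (C : Set R) ∩ (Z k.succ : Set (PrimeSpectrum R)) := by
        rw [PrimeSpectrum.zeroLocus_radical, PrimeSpectrum.zeroLocus_sup, hI]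
      obtain ⟨s, hs⟩ := exists_lift_quotient (R := CommRingCat.of R) _ (hsec k) J
        (Ideal.radical_isRadical _) (by
          erw [hJ]
          exact fun p hp => ⟨hp.2, fun hp' => Set.disjoint_left.mp ht hp.1 hp'⟩)
      have hσ : CommRingCat.ofHom (algebraMap R B) ≫ Spec.preimage s =
          CommRingCat.ofHom (Ideal.Quotient.mk J) := Spec.map_injective (by
        rw [Spec.map_comp, Spec.map_preimage]; exact hs)
      let σ : B →ₐ[R] R ⧸ J :=
        { (Spec.preimage s).hom with
          commutes' := fun r => congrArg (fun f => f.hom r) hσ }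
      obtain ⟨t', ht'⟩ := gens_mod_alg M e he J σ
      let t'' : Fin (N * k.succ.val) → M := fun x => Fin.append t t' (Fin.cast (by simp [Nat.mul_succ]) x)
      refine ⟨t'', Set.disjoint_left.mpr fun p hp hpZ => ?_⟩
      have hsub : ∀ x : Fin (N * k.castSucc.val + N),
          Fin.append t t' x ∈ Submodule.span R (Set.range t'') := fun x =>
        Submodule.subset_span ⟨Fin.cast (by simp [Nat.mul_succ]) x, by simp [t'']⟩
      let K := Submodule.span R (Set.range t'')
      have hKt : Submodule.span R (Set.range t) ≤ K := Submodule.span_le.mpr (by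
        rintro _ ⟨x, rfl⟩
        have := hsub (Fin.castAdd N x)
        rwa [Fin.append_left] at this)
      have hKt' : Submodule.span R (Set.range t') ≤ K := Submodule.span_le.mpr (by
        rintro _ ⟨x, rfl⟩
        have := hsub (Fin.natAdd _ x)
        rwa [Fin.append_right] at this)
      have hpC : p ∈ PrimeSpectrum.zeroLocus (C : Set R) := fun r hr =>
        hp (Submodule.mem_colon.mpr fun x hx => hKt (Submodule.mem_colon.mp hr x hx))
      have hpJ : J ≤ p.asIdeal := by
        have : p ∈ PrimeSpectrum.zeroLocus (J : Set R) := hJ ▸ ⟨hpC, hpZ⟩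
        exact this
      have htop : (⊤ : Submodule R (M ⧸ K)) ≤ J • (⊤ : Submodule R (M ⧸ K)) := by
        intro y _
        obtain ⟨x, rfl⟩ := Submodule.mkQ_surjective K y
        obtain ⟨a, ha, b, hb, rfl⟩ := Submodule.mem_sup.mp (ht'.ge (Submodule.mem_top (x := x)))
        rw [map_add, show K.mkQ a = 0 from (Submodule.Quotient.mk_eq_zero K).mpr (hKt' ha), zero_add]
        refine (Submodule.map_smul'' J ⊤ K.mkQ).le.trans ?_ (Submodule.mem_map_of_mem hb)
        exact Submodule.smul_mono le_rfl le_top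
      obtain ⟨r, hr1, hr⟩ := Submodule.exists_sub_one_mem_and_smul_eq_zero_of_fg_of_le_smul J ⊤
        Module.Finite.fg_top htop
      refine p.2.ne_top ((Ideal.eq_top_iff_one _).mpr ?_)
      have hrp : r ∈ p.asIdeal := hp (Submodule.mem_colon.mpr fun x _ =>
        (Submodule.Quotient.mk_eq_zero K).mp (hr (K.mkQ x) trivial))
      have := p.asIdeal.sub_mem hrp (hpJ hr1)
      rwa [sub_sub_cancel] at this
  obtain ⟨t, ht⟩ := key (Fin.last L)
  refine genBy_iff.mpr ⟨fun x => t (Fin.cast (by simp) x), eq_top_iff.mpr fun x _ => ?_⟩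
  have hK : (Submodule.span R (Set.range t)).colon ⊤ = (⊤ : Ideal R) := by
    rw [← PrimeSpectrum.zeroLocus_empty_iff_eq_top]
    rw [hlast] at ht
    exact Set.disjoint_univ.mp ht
  have h1 := Submodule.mem_colon.mp (hK.ge (Submodule.mem_top (x := (1 : R)))) x trivial
  rw [one_smul] at h1
  refine Submodule.span_mono ?_ h1
  rintro _ ⟨y, rfl⟩
  exact ⟨Fin.cast (by simp) y, rfl⟩

end

end AlgzCohLib
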