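import Groth.Agent.DRingLib.ProjAmplitude
import Groth.Agent.DRingLib.FlatBC
import Groth.Agent.DRingLib.Devissage
import Groth.Agent.AlgzCohLib.SizeGens

/-!
# Complexes with uniformly bounded terms
-/

set_option autoImplicit false
set_option linter.all false

universe u

open CategoryTheory CategoryTheory.Limits HomologicalComplex AlgebraicGeometry
open CategoryTheory.Pretriangulated (Triangle)
open CochainComplex (mappingCone)
open Groth.Agent.DRingLib

attribute [local instance] HasDerivedCategory.standard

namespace AlgzCohLib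

variable {R : Type u} [CommRing R]

/-- `K` has a representative by projective modules with at most `G` generators, in `[lo, hi]`. -/
def Sz (K : Dual.D R) (lo hi : ℤ) (G : ℕ) : Prop :=
  ∃ P : DRing.Cx R, DRing.VanishesOutside P lo hi ∧
    (∀ i, Module.Projective R (P.X i) ∧ GenBy R G (P.X i)) ∧ Nonempty (DerivedCategory.Q.obj P ≅ K)

theorem Sz.of_iso {K K' : Dual.D R} {lo hi : ℤ} {G : ℕ} (h : Sz K lo hi G) (e : K ≅ K') :
    Sz K' lo hi G := by
  obtain ⟨P, h1, h2, ⟨e'⟩⟩ := h
  exact ⟨P, h1, h2, ⟨e' ≪≫ e⟩⟩

theorem Sz.mono {K : Dual.D R} {lo lo' hi hi' : ℤ} {G G' : ℕ} (h : Sz K lo hi G) (hlo : lo' ≤ lo)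
    (hhi : hi ≤ hi') (hG : G ≤ G') : Sz K lo' hi' G' := by
  obtain ⟨P, h1, h2, e⟩ := h
  exact ⟨P, fun i hi' => h1 i (by omega), fun i => ⟨(h2 i).1, (h2 i).2.mono hG⟩, e⟩

theorem sz_of_isZero {K : Dual.D R} (h : IsZero K) (lo hi : ℤ) (G : ℕ) : Sz K lo hi G := by
  open ZeroObject in
  let P : DRing.Cx R := 0
  have hz : IsZero P := isZero_zero _
  have hX : ∀ i, IsZero (P.X i) := fun i => (HomologicalComplex.eval _ _ i).map_isZero hz
  refine ⟨P, fun i _ => hX i, fun i => ?_, ⟨(DerivedCategory.Q.map_isZero hz).iso h⟩⟩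
  have := ModuleCat.subsingleton_of_isZero (hX i)
  have := free_of_isZero (hX i)
  exact ⟨inferInstance, genBy_of_subsingleton⟩

theorem surjective_d_of_isZero_homology {P : DRing.Cx R} {hi : ℤ} (hv : ∀ i, hi < i → IsZero (P.X i))
    (h : IsZero (P.homology hi)) : Function.Surjective (P.d (hi - 1) hi).hom := fun z =>
  (KFlatLib.isZero_homology_iff_exists P (hi - 1) hi (hi + 1) (by omega) rfl).1 h z (by
    have := (ModuleCat.subsingleton_of_isZero (hv (hi + 1) (by omega)))
    exact Subsingleton.elim _ _)

/-- Removing an acyclic top degree. -/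
theorem sz_trim {P : DRing.Cx R} {lo hi : ℤ} {G : ℕ} (hv : DRing.VanishesOutside P lo hi)
    (hp : ∀ i, Module.Projective R (P.X i) ∧ GenBy R G (P.X i)) (h : IsZero (P.homology hi)) :
    Sz (DerivedCategory.Q.obj P) lo (hi - 1) G := by
  have hsurj := surjective_d_of_isZero_homology (fun i hi => hv i (Or.inr hi)) h
  let c := hi - 1
  have hc : c + 1 = hi := by omega
  haveI : P.IsLE c := by
    rw [CochainComplex.isLE_iff]
    intro i hi'
    refine (exactAt_iff_isZero_homology _ i).mpr ?_
    rcases (show hi ≤ i by omega).eq_or_lt with rfl | hlt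
    · exact h
    · exact (exactAt_iff_isZero_homology _ i).mp (ShortComplex.exact_of_isZero_X₂ _ (hv i (Or.inr hlt)))
  haveI : QuasiIso (P.ιTruncLE c) := (CochainComplex.quasiIso_ιTruncLE_iff P c).mpr inferInstance
  let eK : P.cycles c ≅ ModuleCat.of R (LinearMap.ker (P.d c hi).hom) :=
    (P.cyclesIsKernel c hi (by simp; omega)).conePointUniqueUpToIso (limit.isLimit _) ≪≫
      ModuleCat.kernelIsoKer (P.d c hi)
  refine ⟨P.truncLE c, fun i hi' => ?_, fun i => ?_, ⟨asIso (DerivedCategory.Q.map (P.ιTruncLE c))⟩⟩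
  · by_cases hic : c < i
    · exact CochainComplex.isZero_of_isStrictlyLE (P.truncLE c) c i hic
    · rcases (not_lt.mp hic).eq_or_lt with rfl | hlt
      · exact (IsZero.of_mono (P.iCycles c) (hv c (by omega))).of_iso (P.truncLEXIsoCycles c)
      · exact (hv i (by omega)).of_iso (P.truncLEXIso c i hlt)
  · rcases lt_trichotomy i c with hi' | hi' | hi'
    · have := (hp i).1
      exact ⟨Module.Projective.of_equiv (P.truncLEXIso c i hi').toLinearEquiv.symm,
        (hp i).2.of_surjective _ (P.truncLEXIso c i hi').toLinearEquiv.symm.surjective⟩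
    · subst hi'
      let d : P.X c →ₗ[R] P.X hi := (P.d c hi).hom
      have := (hp hi).1
      obtain ⟨s, hs⟩ := Module.projective_lifting_property d LinearMap.id hsurj
      let p : P.X c →ₗ[R] LinearMap.ker d := (LinearMap.id - s.comp d).codRestrict _ fun x => by
        have := LinearMap.congr_fun hs (d x)
        simp only [LinearMap.comp_apply, LinearMap.id_apply] at this
        simp [LinearMap.mem_ker, this]
      have hpz : ∀ z : LinearMap.ker d, p z = z := fun z => Subtype.ext (by
        simp [p, LinearMap.mem_ker.1 z.2])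
      have := (hp c).1
      have hproj : Module.Projective R (LinearMap.ker d) :=
        Module.Projective.of_split (LinearMap.ker d).subtype p (LinearMap.ext hpz)
      let e := (P.truncLEXIsoCycles c ≪≫ eK).toLinearEquiv.symm
      exact ⟨Module.Projective.of_equiv e,
        ((hp c).2.of_surjective p fun z => ⟨z, hpz z⟩).of_surjective _ e.surjective⟩
    · have hz := CochainComplex.isZero_of_isStrictlyLE (P.truncLE c) c i hi'
      have := free_of_isZero hz
      have := ModuleCat.subsingleton_of_isZero hz
      exact ⟨inferInstance, genBy_of_subsingleton⟩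

theorem homology_genBy_top {P : DRing.Cx R} {hi : ℤ} {G : ℕ} (hv : ∀ i, hi < i → IsZero (P.X i))
    (hg : GenBy R G (P.X hi)) : GenBy R G (P.homology hi) := by
  have hz : P.d hi (hi + 1) = 0 := (hv (hi + 1) (by omega)).eq_of_tgt _ _
  haveI := P.isIso_iCycles hi (hi + 1) (by simp) hz
  refine hg.of_surjective (inv (P.iCycles hi) ≫ P.homologyπ hi).hom ?_
  exact (ModuleCat.epi_iff_surjective _).1 inferInstance

/-- Triangle gluing: a free module in one degree and a small complex below. -/
theorem sz_glue (T : Triangle (Dual.D R)) (hT : T ∈ Pretriangulated.distinguishedTriangles)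
    {lo hi : ℤ} {G m : ℕ} (h : Sz T.obj₃ lo (hi - 1) G) (S : DRing.Cx R)
    (hS : ∀ i, i ≠ hi → IsZero (S.X i)) (hSp : Module.Projective R (S.X hi)) (hSg : GenBy R m (S.X hi))
    (hlo : lo ≤ hi) (eS : T.obj₁ ≅ DerivedCategory.Q.obj S) : Sz T.obj₂ lo hi (G + m) := by
  obtain ⟨P, hPv, hPp, ⟨eP⟩⟩ := h
  let P' : DRing.Cx R := P⟦(-1 : ℤ)⟧
  have hX : ∀ i, P'.X i = P.X (i + (-1)) := fun i => rfl
  haveI : P'.IsKProjective := isKProjective_of_projective P' hi
    (fun i hi' => hPv (i + (-1)) (Or.inr (by omega))) (fun i => (hPp (i + (-1))).1)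
  let T' := T.invRotate
  have hT' : T' ∈ Pretriangulated.distinguishedTriangles := Pretriangulated.inv_rot_of_distTriang _ hT
  let e₁ : DerivedCategory.Q.obj P' ≅ T'.obj₁ :=
    ((DerivedCategory.Q.commShiftIso (-1 : ℤ)).app P) ≪≫
      (shiftFunctor (Dual.D R) (-1 : ℤ)).mapIso eP
  obtain ⟨g, hg⟩ := Q_map_surjective P' S (e₁.hom ≫ T'.mor₁ ≫ eS.hom)
  have hcomm : DerivedCategory.Q.map g ≫ eS.inv = e₁.hom ≫ T'.mor₁ := by
    refine (congrArg (fun f => f ≫ eS.inv) hg).trans ?_
    simp only [Category.assoc]
    erw [eS.hom_inv_id, Category.comp_id]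
    rfl
  let e := Pretriangulated.isoTriangleOfIso₁₂ _ T' (DerivedCategory.mappingCone_triangle_distinguished g)
    hT' e₁ eS.symm hcomm
  let eK : DerivedCategory.Q.obj (mappingCone g) ≅ T.obj₂ := Triangle.π₃.mapIso e
  refine ⟨mappingCone g, fun i hi' => ?_, fun i => ?_, ⟨eK⟩⟩
  · exact IsZero.of_iso (biprod_isZero_iff _ _ |>.mpr ⟨hPv (i + 1 + (-1)) (by omega), hS i (by omega)⟩)
      (HomologicalComplex.homotopyCofiber.XIsoBiprod g i (i + 1) rfl)
  · let eX : (mappingCone g).X i ≃ₗ[R] (P'.X (i + 1)) × (S.X i) :=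
      ((HomologicalComplex.homotopyCofiber.XIsoBiprod g i (i + 1) rfl) ≪≫
        ModuleCat.biprodIsoProd _ _).toLinearEquiv
    have hp1 : Module.Projective R (P'.X (i + 1)) := (hPp (i + 1 + (-1))).1
    have hg1 : GenBy R G (P'.X (i + 1)) := (hPp (i + 1 + (-1))).2
    have hS' : Module.Projective R (S.X i) ∧ GenBy R m (S.X i) := by
      by_cases hi' : i = hi
      · subst hi'; exact ⟨hSp, hSg⟩
      · have := free_of_isZero (hS i hi')
        have := ModuleCat.subsingleton_of_isZero (hS i hi')
        exact ⟨inferInstance, genBy_of_subsingleton⟩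
    have := hS'.1
    exact ⟨Module.Projective.of_equiv eX.symm, (hg1.prod hS'.2).of_surjective _ eX.symm.surjective⟩

/-- A map from a module in one degree inducing a given map on cohomology. -/
theorem exists_cell (E : DRing.Cx R) (hi : ℤ) (X : ModuleCat.{u} R) [Projective X]
    (γ : X ⟶ E.homology hi) :
    ∃ (σ : (single (ModuleCat.{u} R) (ComplexShape.up ℤ) hi).obj X ⟶ E)
      (κ : X ⟶ ((single (ModuleCat.{u} R) (ComplexShape.up ℤ) hi).obj X).homology hi),
      IsIso κ ∧ κ ≫ homologyMap σ hi = γ := by
  let S := (single (ModuleCat.{u} R) (ComplexShape.up ℤ) hi).obj X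
  have hSz : ∀ i, i ≠ hi → IsZero (S.X i) := fun i hi' =>
    isZero_single_obj_X (ComplexShape.up ℤ) hi _ i hi'
  let ζ : X ⟶ E.cycles hi := Projective.factorThru γ (E.homologyπ hi)
  let σ : S ⟶ E := mkHomFromSingle (ζ ≫ E.iCycles hi) (fun k _ => by
    rw [Category.assoc, E.iCycles_d, comp_zero])
  have hd : S.d hi (hi + 1) = 0 := (hSz (hi + 1) (by omega)).eq_of_tgt _ _
  have hd' : S.d (hi - 1) hi = 0 := (hSz (hi - 1) (by omega)).eq_of_src _ _
  haveI := S.isIso_iCycles hi (hi + 1) (by simp) hd
  haveI := S.isIso_homologyπ (hi - 1) hi (by simp) hd'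
  refine ⟨σ, (singleObjXSelf (ComplexShape.up ℤ) hi X).inv ≫ inv (S.iCycles hi) ≫ S.homologyπ hi,
    inferInstance, ?_⟩
  simp only [Category.assoc, homologyπ_naturality]
  rw [← Category.assoc, ← Category.assoc, ← Projective.factorThru_comp γ (E.homologyπ hi)]
  congr 1
  rw [← cancel_mono (E.iCycles hi)]
  simp only [Category.assoc, cyclesMap_i, IsIso.inv_hom_id_assoc]
  simp [σ, S, mkHomFromSingle_f, ζ]

theorem Hn_map_Q_iso {E E' : DRing.Cx R} (σ : E ⟶ E') (i : ℤ) :
    (IsIso (homologyMap σ i) → IsIso ((Hn R i).map (DerivedCategory.Q.map σ))) ∧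
      (Epi (homologyMap σ i) → Epi ((Hn R i).map (DerivedCategory.Q.map σ))) := by
  let F := DerivedCategory.homologyFunctorFactors (ModuleCat.{u} R) i
  have e : (Hn R i).map (DerivedCategory.Q.map σ) =
      (F.app E).hom ≫ homologyMap σ i ≫ (F.app E').inv := by
    rw [← Category.assoc, Iso.eq_comp_inv]
    exact F.hom.naturality σ
  constructor <;> intro h <;> rw [e]
  · exact IsIso.comp_isIso' inferInstance (IsIso.comp_isIso' h inferInstance)
  · haveI := h
    exact epi_comp' inferInstance (epi_comp' h inferInstance)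

theorem isZero_homology_cone_top {S E : DRing.Cx R} (σ : S ⟶ E) (hi : ℤ)
    (hS : ∀ i, hi < i → IsZero (S.X i)) (hE : ∀ i, hi < i → IsZero (E.homology i))
    (he : Epi (homologyMap σ hi)) (i : ℤ) (h : hi ≤ i) : IsZero ((mappingCone σ).homology i) := by
  refine isZero_homology_of_Hn ((Approx.iff_cone hi _
    (DerivedCategory.mappingCone_triangle_distinguished σ)).1 ⟨fun j hj => ?_, (Hn_map_Q_iso σ hi).2 he⟩ i h)
  exact ⟨0, (isZero_Hn_Q S j (hS j hj)).eq_of_src _ _, (isZero_Hn_of_homology (hE j hj)).eq_of_src _ _⟩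

section BaseChange

variable {B : Type u} [CommRing B] [Algebra R B] [Module.FaithfullyFlat R B]

theorem isZero_of_extCx (E : DRing.Cx R) (i : ℤ)
    (h : IsZero (((extCx (algebraMap R B)).obj E).homology i)) : IsZero (E.homology i) := by
  obtain ⟨e⟩ := exists_homology_extCx_iso (algebraMap R B) (RingHom.flat_algebraMap_iff.mpr inferInstance) E i
  have := ModuleCat.subsingleton_of_isZero (h.of_iso e.symm)
  have : Subsingleton (TensorProduct R B (E.homology i)) :=
    (extendScalarsEquiv (A := R) (B := B) (E.homology i)).symm.toEquiv.subsingleton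
  have : Subsingleton (E.homology i) :=
    Module.FaithfullyFlat.lTensor_reflects_triviality R B (E.homology i)
  exact ModuleCat.isZero_of_subsingleton _

end BaseChange

/-- The iso on cohomology of an iso in `D(R)`. -/
noncomputable def hIso {P E : DRing.Cx R} (e : DerivedCategory.Q.obj P ≅ DerivedCategory.Q.obj E) (i : ℤ) :
    P.homology i ≅ E.homology i :=
  ((DerivedCategory.homologyFunctorFactors (ModuleCat.{u} R) i).app P).symm ≪≫ (Hn R i).mapIso e ≪≫
    (DerivedCategory.homologyFunctorFactors (ModuleCat.{u} R) i).app E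

theorem projective_homology_single {P : DRing.Cx R} (hi : ℤ) (h1 : IsZero (P.X (hi + 1)))
    (h2 : IsZero (P.X (hi - 1))) (hp : Module.Projective R (P.X hi)) :
    Module.Projective R (P.homology hi) := by
  haveI := P.isIso_iCycles hi (hi + 1) (by simp) (h1.eq_of_tgt _ _)
  haveI := P.isIso_homologyπ (hi - 1) hi (by simp) (h2.eq_of_src _ _)
  exact Module.Projective.of_equiv (asIso (inv (P.iCycles hi) ≫ P.homologyπ hi)).toLinearEquiv

theorem flat_of_extendScalars {B : Type u} [CommRing B] [Algebra R B] [Module.FaithfullyFlat R B]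
    (M : ModuleCat.{u} R)
    (h : Module.Projective B ((ModuleCat.extendScalars.{u, u, u} (algebraMap R B)).obj M)) :
    Module.Flat R M := by
  haveI := h
  haveI hP : Module.Projective B (TensorProduct R B (M : Type u)) :=
    Module.Projective.of_equiv' (extendScalarsEquiv (A := R) (B := B) M)
  haveI : Module.Flat B (TensorProduct R B (M : Type u)) := Module.Flat.of_projective
  exact Module.Flat.of_flat_tensorProduct R M B

/-- A complex whose base change is a single small projective module. -/
theorem sz_single {B : Type u} [CommRing B] [Algebra R B] [Module.FaithfullyFlat R B]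
    (hflat : (algebraMap R B).Flat) (hi : ℤ) (E : DRing.Cx R) (a b : ℤ)
    (hv : DRing.VanishesOutside E a b) (hp : DRing.TermwiseFiniteProjective E)
    (P : DRing.Cx B) (hPv : DRing.VanishesOutside P hi hi) {M : ℕ}
    (hPp : ∀ i, Module.Projective B (P.X i) ∧ GenBy B M (P.X i))
    (eP : DerivedCategory.Q.obj P ≅ DerivedCategory.Q.obj ((extCx (algebraMap R B)).obj E))
    (hz : ∀ i, hi < i → IsZero (E.homology i)) {m : ℕ} (hg : GenBy R m (E.homology hi)) :
    Sz (DerivedCategory.Q.obj E) hi hi m := by
  have hzlo : ∀ i, i < hi → IsZero (E.homology i) := fun i hi' => isZero_of_extCx (B := B) E i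
    (isZero_homology_of_Hn ((isZero_Hn_Q P i (hPv i (Or.inl hi'))).of_iso
      ((Hn B i).mapIso eP.symm)))
  haveI : Module.FinitePresentation R (E.homology hi) := by
    obtain ⟨h1, h2⟩ := finite_projective_cycles E b (fun i hi' => hv i (Or.inr hi')) hp hi hz
    exact homology_finitePresentation_of_cycles E hi (hp (hi - 1)).1 h1 h2
  haveI : Module.Flat R (E.homology hi) := by
    obtain ⟨e⟩ := exists_homology_extCx_iso (algebraMap R B) hflat E hi
    refine flat_of_extendScalars (B := B) (E.homology hi) ?_
    have hPH := projective_homology_single (P := P) hi (hPv _ (Or.inr (by omega)))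
      (hPv _ (Or.inl (by omega))) (hPp hi).1
    exact Module.Projective.of_equiv (hIso eP hi ≪≫ e).toLinearEquiv
  have hH : Module.Projective R (E.homology hi) := Module.Flat.projective_of_finitePresentation
  haveI : Projective (E.homology hi) := (IsProjective.iff_projective (E.homology hi : Type u)).mp hH
  obtain ⟨σ, κ, hκ, hσ⟩ := exists_cell E hi (E.homology hi) (𝟙 _)
  haveI : IsIso (homologyMap σ hi) := by
    rw [show homologyMap σ hi = inv κ by rw [← cancel_epi κ, hσ, IsIso.hom_inv_id]]
    infer_instance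
  haveI : IsIso (DerivedCategory.Q.map σ) := by
    rw [DerivedCategory.isIso_iff]
    intro i
    by_cases hi' : i = hi
    · subst hi'; exact (Hn_map_Q_iso σ i).1 inferInstance
    · refine ⟨0, (isZero_Hn_Q _ i (isZero_single_obj_X (ComplexShape.up ℤ) hi _ i hi')).eq_of_src _ _,
        (isZero_Hn_of_homology ?_).eq_of_src _ _⟩
      rcases lt_or_gt_of_ne hi' with h' | h'
      · exact hzlo i h'
      · exact hz i h'
  refine ⟨_, fun i hi' => isZero_single_obj_X (ComplexShape.up ℤ) hi _ i (by omega), fun i => ?_,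
    ⟨asIso (DerivedCategory.Q.map σ)⟩⟩
  by_cases hi' : i = hi
  · subst hi'
    let e := (singleObjXSelf (ComplexShape.up ℤ) i (E.homology i)).toLinearEquiv.symm
    exact ⟨Module.Projective.of_equiv e,
      hg.of_surjective _ e.surjective⟩
  · have hz0 := isZero_single_obj_X (ComplexShape.up ℤ) hi (E.homology hi) i hi'
    have := free_of_isZero hz0
    have := ModuleCat.subsingleton_of_isZero hz0
    exact ⟨inferInstance, genBy_of_subsingleton⟩

/-- The recursive bound. -/
def szBound (L : ℕ) : ℕ → ℕ → ℕ
  | 0, _ => 0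
  | n + 1, M => szBound L n (M * L + M) + M * L

/-- Descending the size of a complex along a Nisnevich cover. -/
theorem sz_descend {B : Type u} [CommRing B] [Algebra R B] [Module.FaithfullyFlat R B] {L : ℕ}
    (hf : W4c5algebraiztannaka.IsNisCoverLen (Spec.map (CommRingCat.ofHom (algebraMap R B))) L) :
    ∀ (n M : ℕ) (hi : ℤ) (E : DRing.Cx R) (a b : ℤ), DRing.VanishesOutside E a b →
      DRing.TermwiseFiniteProjective E →
      Sz (DerivedCategory.Q.obj ((extCx (algebraMap R B)).obj E)) (hi + 1 - n) hi M →
      Sz (DerivedCategory.Q.obj E) (hi + 1 - n) hi (szBound L n M) := by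
  have hflat : (algebraMap R B).Flat := RingHom.flat_algebraMap_iff.mpr inferInstance
  intro n
  induction n with
  | zero =>
    intro M hi E a b hv hp hEB
    obtain ⟨P, hPv, -, ⟨eP⟩⟩ := hEB
    refine sz_of_isZero (isZero_of_isZero_Hn fun i => isZero_Hn_of_homology ?_) _ _ _
    refine isZero_of_extCx (B := B) E i (isZero_homology_of_Hn ?_)
    exact (isZero_Hn_Q P i (hPv i (by omega))).of_iso ((Hn B i).mapIso eP.symm)
  | succ n ih =>
    intro M hi E a b hv hp hEB
    obtain ⟨P, hPv, hPp, ⟨eP⟩⟩ := hEB
    let m := M * L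
    -- the top cohomology
    have hzB : ∀ i, hi < i → IsZero (((extCx (algebraMap R B)).obj E).homology i) := fun i hi' =>
      isZero_homology_of_Hn ((isZero_Hn_Q P i (hPv i (Or.inr hi'))).of_iso ((Hn B i).mapIso eP.symm))
    have hz : ∀ i, hi < i → IsZero (E.homology i) := fun i hi' => isZero_of_extCx (B := B) E i (hzB i hi')
    have hgen : GenBy B M (TensorProduct R B (E.homology hi)) := by
      obtain ⟨e⟩ := exists_homology_extCx_iso (algebraMap R B) hflat E hi
      have h1 : GenBy B M (P.homology hi) :=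
        homology_genBy_top (fun i hi' => hPv i (Or.inr hi')) (hPp hi).2
      let e1 := hIso eP hi ≪≫ e
      exact (h1.of_surjective _ e1.toLinearEquiv.surjective).of_surjective _
        (extendScalarsEquiv (A := R) (B := B) (E.homology hi)).surjective
    haveI : Module.Finite R (E.homology hi) := by
      obtain ⟨g, hg⟩ := hgen
      haveI : Module.Finite B (TensorProduct R B (E.homology hi)) := Module.Finite.of_surjective g hg
      exact finite_of_forall_finite (S := fun _ : Unit => B)
        (detectsZero_of_faithfullyFlat (S := fun _ : Unit => B) ()) _ fun _ => inferInstance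
    obtain ⟨γ, hγ⟩ := genBy_of_flag (R := R) (E.homology hi) hf hgen
    rcases Nat.eq_zero_or_pos n with hn | hn
    · -- a single degree
      subst hn
      exact (sz_single hflat hi E a b hv hp P (fun i hi' => hPv i (by push_cast at *; omega)) hPp eP hz
        ⟨γ, hγ⟩).mono (by push_cast; omega) le_rfl (by simp [szBound, m])
    haveI : Projective (ModuleCat.of R (Fin m → R)) :=
      (IsProjective.iff_projective (Fin m → R)).mp inferInstance
    obtain ⟨σ, κ, hκ, hσ⟩ := exists_cell E hi (ModuleCat.of R (Fin m → R)) (ModuleCat.ofHom γ)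
    let S : DRing.Cx R := (single (ModuleCat.{u} R) (ComplexShape.up ℤ) hi).obj (ModuleCat.of R (Fin m → R))
    have hSz : ∀ i, i ≠ hi → IsZero (S.X i) := fun i hi' =>
      isZero_single_obj_X (ComplexShape.up ℤ) hi _ i hi'
    let eSX : S.X hi ≅ ModuleCat.of R (Fin m → R) := singleObjXSelf (ComplexShape.up ℤ) hi _
    have hSfin : ∀ i, Module.Finite R (S.X i) ∧ Module.Projective R (S.X i) := fun i => by
      by_cases hi' : i = hi
      · subst hi'
        exact ⟨Module.Finite.equiv eSX.toLinearEquiv.symm, Module.Projective.of_equiv eSX.toLinearEquiv.symm⟩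
      · have := free_of_isZero (hSz i hi')
        exact ⟨finite_of_isZero (hSz i hi'), inferInstance⟩
    have hepi : Epi (homologyMap σ hi) := by
      haveI : Epi (κ ≫ homologyMap σ hi) := by
        rw [hσ, ModuleCat.epi_iff_surjective]
        exact hγ
      exact epi_of_epi κ _
    let C : DRing.Cx R := mappingCone σ
    have hTC := DerivedCategory.mappingCone_triangle_distinguished σ
    have hCz : ∀ i, hi ≤ i → IsZero (C.homology i) := fun i hi' =>
      isZero_homology_cone_top σ hi (fun j hj => hSz j (by omega)) hz hepi i hi'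
    have hCv : DRing.VanishesOutside C (min a (hi - 1)) (max b hi) := fun i hi' =>
      IsZero.of_iso (biprod_isZero_iff _ _ |>.mpr ⟨hSz (i + 1) (by omega), hv i (by omega)⟩)
        (HomologicalComplex.homotopyCofiber.XIsoBiprod σ i (i + 1) rfl)
    have hCp : DRing.TermwiseFiniteProjective C := fun i => by
      let eX : C.X i ≃ₗ[R] (S.X (i + 1)) × (E.X i) :=
        ((HomologicalComplex.homotopyCofiber.XIsoBiprod σ i (i + 1) rfl) ≪≫
          ModuleCat.biprodIsoProd _ _).toLinearEquiv
      have := (hSfin (i + 1)).1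
      have := (hSfin (i + 1)).2
      have := (hp i).1
      have := (hp i).2
      exact ⟨Module.Finite.equiv eX.symm, Module.Projective.of_equiv eX.symm⟩
    -- the base change of the cone
    let SB := (extCx (algebraMap R B)).obj S
    have hSBz : ∀ i, i ≠ hi → IsZero (SB.X i) := fun i hi' =>
      (ModuleCat.extendScalars.{u, u, u} (algebraMap R B)).map_isZero (hSz i hi')
    have hSBp : ∀ i, Module.Projective B (SB.X i) ∧ GenBy B m (SB.X i) := fun i => by
      refine ⟨projective_extCx _ i (hSfin i).2, ?_⟩
      by_cases hi' : i = hi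
      · subst hi'
        let e1 : TensorProduct R B (Fin m → R) ≃ₗ[B] (Fin m → B) := TensorProduct.piScalarRight R B B (Fin m)
        exact (genBy_pi.of_surjective _ e1.symm.surjective).of_surjective _
          ((((ModuleCat.extendScalars.{u, u, u} (algebraMap R B)).mapIso eSX).toLinearEquiv).trans
            (extendScalarsEquiv (A := R) (B := B) _)).symm.surjective
      · have := ModuleCat.subsingleton_of_isZero (hSBz i hi')
        exact genBy_of_subsingleton
    haveI : SB.IsKProjective :=
      isKProjective_of_projective SB hi (fun i hi' => hSBz i (by omega)) fun i => (hSBp i).1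
    obtain ⟨g, hg⟩ := Q_map_surjective SB P (DerivedCategory.Q.map ((extCx (algebraMap R B)).map σ) ≫ eP.inv)
    let e := Pretriangulated.isoTriangleOfIso₁₂ _ _ (DerivedCategory.mappingCone_triangle_distinguished g)
      (DerivedCategory.mappingCone_triangle_distinguished ((extCx (algebraMap R B)).map σ))
      (Iso.refl _) eP (by
        refine (congrArg (fun f => f ≫ eP.hom) hg).trans ?_
        simp only [Category.assoc, Iso.inv_hom_id, Category.comp_id]
        exact (Category.id_comp _).symm)
    let eC : DerivedCategory.Q.obj (mappingCone g) ≅ DerivedCategory.Q.obj ((extCx (algebraMap R B)).obj C) :=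
      Triangle.π₃.mapIso e ≪≫ DerivedCategory.Q.mapIso
        (CochainComplex.mappingCone.mapHomologicalComplexIso σ
          (ModuleCat.extendScalars.{u, u, u} (algebraMap R B))).symm
    have hgz : IsZero ((mappingCone g).homology hi) := isZero_homology_of_Hn
      ((isZero_Hn_of_homology (isZero_homology_extCx _ hflat C hi (hCz hi le_rfl))).of_iso
        ((Hn B hi).mapIso eC))
    have hCB : Sz (DerivedCategory.Q.obj ((extCx (algebraMap R B)).obj C)) (hi - 1 + 1 - n) (hi - 1) (m + M) := by
      refine ((sz_trim (P := mappingCone g) (lo := hi + 1 - ((n : ℤ) + 1)) (hi := hi) (G := m + M)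
          (fun i hi' => ?_) (fun i => ?_) hgz).of_iso eC).mono (by omega) le_rfl le_rfl
      · exact IsZero.of_iso (biprod_isZero_iff _ _ |>.mpr
            ⟨hSBz (i + 1) (by omega), hPv i (by omega)⟩)
            (HomologicalComplex.homotopyCofiber.XIsoBiprod g i (i + 1) rfl)
      · let eX : (mappingCone g).X i ≃ₗ[B] (SB.X (i + 1)) × (P.X i) :=
            ((HomologicalComplex.homotopyCofiber.XIsoBiprod g i (i + 1) rfl) ≪≫
              ModuleCat.biprodIsoProd _ _).toLinearEquiv
        have := (hSBp (i + 1)).1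
        have := (hPp i).1
        exact ⟨Module.Projective.of_equiv eX.symm,
          ((hSBp (i + 1)).2.prod (hPp i).2).of_surjective _ eX.symm.surjective⟩
    have hC := ih (m + M) (hi - 1) C _ _ hCv hCp hCB
    refine (sz_glue _ hTC hC S hSz (hSfin hi).2
      (genBy_pi.of_surjective _ eSX.toLinearEquiv.symm.surjective) (by omega) (Iso.refl _)).mono
        (by omega) le_rfl (le_of_eq rfl)

end AlgzCohLib
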